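import Mathlib.RepresentationTheory.Basic
import Mathlib.GroupTheory.GroupAction.Basic

/-!
# Equivariant families from a fixed vector
-/

set_option autoImplicit false

namespace Cfsg.Agent.HalfNorm

/-- A vector fixed by the stabiliser of `x₀` spreads to an equivariant family over the orbit. -/
theorem exists_family {G X K V : Type*} [Group G] [MulAction G X] [MulAction.IsPretransitive G X]
    [Field K] [AddCommGroup V] [Module K V] (ρ : Representation K G V) (x₀ : X) (v : V)
    (hv : ∀ g : G, g • x₀ = x₀ → ρ g v = v) :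
    ∃ w : X → V, w x₀ = v ∧ ∀ (g : G) (x : X), w (g • x) = ρ g (w x) := by
  choose s hs using fun x : X => MulAction.exists_smul_eq G x₀ x
  have key : ∀ g h : G, g • x₀ = h • x₀ → ρ g v = ρ h v := by
    intro g h he
    have h1 : (h⁻¹ * g) • x₀ = x₀ := by rw [mul_smul, he, inv_smul_smul]
    calc ρ g v = ρ (h * (h⁻¹ * g)) v := by rw [mul_inv_cancel_left]
      _ = ρ h v := by rw [map_mul, Module.End.mul_apply, hv _ h1]
  refine ⟨fun x => ρ (s x) v, ?_, fun g x => ?_⟩
  · show ρ (s x₀) v = v
    exact hv _ (hs x₀)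
  · show ρ (s (g • x)) v = ρ g (ρ (s x) v)
    rw [← Module.End.mul_apply, ← map_mul]
    exact key _ _ (by rw [mul_smul, hs, hs])

end Cfsg.Agent.HalfNorm
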