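import Mathlib.Algebra.CharP.Lemmas
import Mathlib.LinearAlgebra.Matrix.ToLin
import Mathlib.LinearAlgebra.FiniteDimensional.Basic
import Mathlib.RingTheory.Polynomial.Basic

/-!
# The Hall identity in small dimension

Two by two matrices satisfy `[[a, b]², c] = 0`, three by three matrices do not.
-/

set_option autoImplicit false

namespace Cfsg.Agent.HalfNorm

/-- The commutator of `c` with the square of the commutator of `a` and `b`. -/
def hall {R : Type*} [Ring R] (a b c : R) : R :=
  (a * b - b * a) * (a * b - b * a) * c - c * ((a * b - b * a) * (a * b - b * a))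

theorem map_hall {R S : Type*} [Ring R] [Ring S] (f : R →+* S) (a b c : R) :
    f (hall a b c) = hall (f a) (f b) (f c) := by
  simp [hall, map_sub, map_mul]

theorem hall_two {K : Type*} [Field K] (a b c : Matrix (Fin 2) (Fin 2) K) : hall a b c = 0 := by
  ext i j
  fin_cases i <;> fin_cases j <;>
    simp [hall, Matrix.mul_apply, Fin.sum_univ_two, Matrix.sub_apply] <;> ring

theorem hall_of_finrank_le {K : Type*} [Field K] {W : Type*} [AddCommGroup W] [Module K W]
    [FiniteDimensional K W] (h : Module.finrank K W ≤ 2) (a b c : Module.End K W) :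
    hall a b c = 0 := by
  let β := Module.finBasis K W
  let e := LinearMap.toMatrixAlgEquiv β
  apply e.injective
  rw [map_zero]
  show e.toRingEquiv.toRingHom (hall a b c) = 0
  rw [map_hall]
  generalize e.toRingEquiv.toRingHom a = A
  generalize e.toRingEquiv.toRingHom b = B
  generalize e.toRingEquiv.toRingHom c = C
  revert A B C
  generalize Module.finrank K W = n at h
  intro A B C
  interval_cases n
  · exact Subsingleton.elim _ _
  · ext i j
    fin_cases i
    fin_cases j
    simp [hall, Matrix.mul_apply, Matrix.sub_apply]
    ring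
  · exact hall_two A B C

/-- The elementary matrix `e_ij` of size three. -/
def em {K : Type*} [Field K] (i j : Fin 3) : Matrix (Fin 3) (Fin 3) K := Matrix.single i j 1

theorem hall_three {K : Type*} [Field K] :
    hall (em 0 1 : Matrix (Fin 3) (Fin 3) K) (em 1 0) (em 0 2) * em 2 0 = em 0 0 := by
  ext i j
  fin_cases i <;> fin_cases j <;>
    simp [hall, em, Matrix.mul_apply, Fin.sum_univ_three, Matrix.sub_apply, Matrix.single]

theorem sub_one_pow_char {K V : Type*} [Field K] [AddCommGroup V] [Module K V] {p : ℕ}
    [Fact p.Prime] [CharP K p] (T : Module.End K V) (hT : T ^ p = 1) : (T - 1) ^ p = 0 := by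
  have h : (Polynomial.X - 1 : Polynomial K) ^ p = Polynomial.X ^ p - 1 := by
    rw [sub_pow_char, one_pow]
  have := congrArg (Polynomial.aeval T) h
  simpa [map_pow, map_sub, hT] using this

end Cfsg.Agent.HalfNorm
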