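import Cfsg.Agent.PrimeDegree.Inverting
import Mathlib.RingTheory.IntegralDomain
import Mathlib.GroupTheory.Index

/-!
# Prime degree with half normaliser: a labelling of the points

The points can be labelled by `ZMod p` so that all translations and square scalings are induced.
-/

set_option autoImplicit false

namespace Cfsg.Agent.HalfNorm

variable {p : ℕ} [hp : Fact p.Prime]

/-- A labelling carrying `0, 1` to two given points, with translations and square scalings induced. -/
theorem exists_label {G Ω : Type*} [Group G] [Finite G] [MulAction G Ω] [FaithfulSMul G Ω] [Finite Ω]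
    (hΩ : Nat.card Ω = p) [MulAction.IsPretransitive G Ω] (P : Sylow p G)
    (hN : 2 * Nat.card ↥(Subgroup.normalizer ((P : Subgroup G) : Set G)) = p * (p - 1))
    {α β : Ω} (hαβ : α ≠ β) :
    ∃ e : ZMod p ≃ Ω, e 0 = α ∧ e 1 = β ∧ (∀ a : Ω, ¬ p ∣ Nat.card (MulAction.stabilizer G a)) ∧
      ∀ (u : (ZMod p)ˣ) (t : ZMod p), IsSquare u → ∃ g : G, ∀ i, g • e i = e (u * i + t) := by
  classical
  have := Fintype.ofFinite Ω
  have hcardΩ : Fintype.card Ω = p := by rw [← Nat.card_eq_fintype_card, hΩ]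
  have hpG : p ∣ Nat.card G := by
    rw [← hΩ, ← MulAction.index_stabilizer_of_transitive G α]
    exact Subgroup.index_dvd_card _
  -- faithful in degree `p`: the order divides `p!`
  have hfac : Nat.card G ∣ p.factorial := by
    rw [← hcardΩ, ← Fintype.card_perm, ← Nat.card_eq_fintype_card]
    exact Subgroup.card_dvd_of_injective (MulAction.toPermHom G Ω) MulAction.toPerm_injective
  have hsq' : ¬ p * p ∣ Nat.card G := by
    intro h
    have h1 := h.trans hfac
    rw [← Nat.mul_factorial_pred hp.out.ne_zero, Nat.mul_dvd_mul_iff_left hp.out.pos,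
      Nat.Prime.dvd_factorial hp.out] at h1
    have := hp.out.pos
    omega
  have hstab : ∀ a : Ω, ¬ p ∣ Nat.card (MulAction.stabilizer G a) := fun a h => hsq' (by
    rw [← Subgroup.card_mul_index (MulAction.stabilizer G a), MulAction.index_stabilizer_of_transitive, hΩ]
    exact Nat.mul_dvd_mul_right h p)
  obtain ⟨k, hk⟩ := IsPGroup.iff_card.1 P.isPGroup'
  have hPp : Nat.card P = p := by
    have h1 : p ∣ Nat.card P := P.dvd_card_of_dvd_card hpG
    rw [hk] at h1 ⊢
    have hkle : k ≤ 1 := by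
      by_contra hlt
      apply hsq'
      refine dvd_trans ?_ (Subgroup.card_subgroup_dvd_card (P : Subgroup G))
      rw [hk, ← sq]
      exact pow_dvd_pow p (by omega)
    have : k ≠ 0 := fun h0 => by
      rw [h0, pow_zero, Nat.dvd_one] at h1
      exact hp.out.one_lt.ne' h1
    rw [show k = 1 by omega, pow_one]
  obtain ⟨σ', hσ'⟩ := exists_prime_orderOf_dvd_card' (G := P) p hPp.symm.dvd
  set s : G := σ'.1
  have hs : orderOf s = p := (Subgroup.orderOf_coe σ').trans hσ'
  have hPz : (P : Subgroup G) = Subgroup.zpowers s :=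
    (Subgroup.eq_of_le_of_card_ge (Subgroup.zpowers_le.2 σ'.2) (by
      exact le_of_eq (hPp.trans ((Nat.card_zpowers s).trans hs).symm))).symm
  have hmov : ∀ g : G, orderOf g = p → ∀ a : Ω, g • a ≠ a := fun g hg a ha => hstab a (by
    rw [← hg, ← Nat.card_zpowers g]
    exact Subgroup.card_dvd_of_le (Subgroup.zpowers_le.2 ha))
  -- a generator of `P` carrying `α` to `β`
  obtain ⟨e₀, he₀, -, hen₀⟩ := PrimeDegree.exists_cyclic_labelling hcardΩ hs (hmov s hs) α
  set n := (e₀.symm β).val
  have hnβ : s ^ n • α = β := by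
    rw [← he₀, hen₀, zero_add, ZMod.natCast_zmod_val, Equiv.apply_symm_apply]
  set σ := s ^ n
  have hσ : orderOf σ = p := by
    refine orderOf_eq_prime ?_ fun h => hαβ (by rw [← hnβ, h, one_smul])
    rw [← pow_mul, mul_comm, pow_mul, ← hs, pow_orderOf_eq_one, one_pow]
  obtain ⟨e, he0, he1, hen⟩ := PrimeDegree.exists_cyclic_labelling hcardΩ hσ (hmov σ hσ) α
  have heβ : e 1 = β := by
    rw [show (1 : ZMod p) = 0 + 1 by rw [zero_add], ← he1, he0]
    exact hnβ
  let φ : G →* Equiv.Perm (ZMod p) := e.symm.permCongrHom.toMonoidHom.comp (MulAction.toPermHom G Ω)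
  have hφ : ∀ g i, φ g i = e.symm (g • e i) := fun g i => rfl
  have hφinj : Function.Injective φ :=
    e.symm.permCongrHom.injective.comp MulAction.toPerm_injective
  let G' := φ.range
  let ι : G ≃* G' := MonoidHom.ofInjective hφinj
  have hιc : ∀ g i, (ι g).1 i = e.symm (g • e i) := fun g i => rfl
  have hσ1 : ∀ i, (ι σ).1 i = i + 1 := fun i => by rw [hιc, he1, Equiv.symm_apply_apply]
  -- the scalings in `G'`
  let H : Subgroup (ZMod p)ˣ :=
    { carrier := {u | ∃ g : G, ∀ i, (ι g).1 i = u * i}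
      one_mem' := ⟨1, fun i => by simp⟩
      mul_mem' := by
        rintro u v ⟨g, hg⟩ ⟨h, hh⟩
        refine ⟨g * h, fun i => ?_⟩
        rw [map_mul, Subgroup.coe_mul, Equiv.Perm.mul_apply, hh, hg, Units.val_mul, mul_assoc]
      inv_mem' := by
        rintro u ⟨g, hg⟩
        refine ⟨g⁻¹, fun i => ?_⟩
        rw [map_inv, InvMemClass.coe_inv, Equiv.Perm.inv_eq_iff_eq, hg, ← mul_assoc, Units.mul_inv, one_mul] }
  have hPσ : (P : Subgroup G) = Subgroup.zpowers σ :=
    (Subgroup.eq_of_le_of_card_ge (Subgroup.zpowers_le.2 (pow_mem σ'.2 n)) (by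
      exact le_of_eq (hPp.trans ((Nat.card_zpowers σ).trans hσ).symm))).symm
  have hσpow : ∀ (j : ℕ) (i : ZMod p), (ι (σ ^ j)).1 i = i + j := fun j i => by
    rw [hιc, hen, Equiv.symm_apply_apply]
  have haff : ∀ g ∈ Subgroup.normalizer ((P : Subgroup G) : Set G),
      ∃ (u : (ZMod p)ˣ) (b : ZMod p), u ∈ H ∧ ∀ i, (ι g).1 i = u * i + b := by
    intro g hg
    have hmem : g * σ * g⁻¹ ∈ (P : Subgroup G) := (Subgroup.mem_normalizer_iff.1 hg σ).1 (pow_mem σ'.2 n)
    rw [hPσ, (isOfFinOrder_of_finite σ).mem_zpowers_iff_mem_range_orderOf, Finset.mem_image] at hmem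
    obtain ⟨a, -, ha⟩ := hmem
    have hcomm : g * σ = σ ^ a * g := by rw [ha, inv_mul_cancel_right]
    have hstep : ∀ i, (ι g).1 (i + 1) = (ι g).1 i + a := fun i => by
      have h := congrArg (fun z => (ι z).1 i) hcomm
      simp only [map_mul, Subgroup.coe_mul, Equiv.Perm.mul_apply, hσ1] at h
      rw [h, hσpow]
    set b := (ι g).1 0
    have hlin : ∀ j : ℕ, (ι g).1 j = (a : ZMod p) * j + b := by
      intro j
      induction j with
      | zero => simp [b]
      | succ j ih => rw [Nat.cast_succ, hstep, ih]; ring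
    have hlin' : ∀ i, (ι g).1 i = (a : ZMod p) * i + b := fun i => by
      have := hlin i.val
      rwa [ZMod.natCast_zmod_val] at this
    have ha0 : (a : ZMod p) ≠ 0 := fun h => zero_ne_one (α := ZMod p) ((ι g).1.injective (by
      rw [hlin', hlin' 1, h]; ring))
    refine ⟨Units.mk0 _ ha0, b, ⟨σ ^ (-b).val * g, fun i => ?_⟩, hlin'⟩
    rw [map_mul, Subgroup.coe_mul, Equiv.Perm.mul_apply, hlin', hσpow, ZMod.natCast_zmod_val,
      add_neg_cancel_right]
    rfl
  choose fu fb hfu hfb using haff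
  have hH : p - 1 ≤ 2 * Nat.card H := by
    let f : Subgroup.normalizer ((P : Subgroup G) : Set G) → H × ZMod p :=
      fun g => (⟨fu g g.2, hfu g g.2⟩, fb g g.2)
    have hf : Function.Injective f := fun g h hgh => by
      refine Subtype.ext (ι.injective (Subtype.ext (Equiv.ext fun i => ?_)))
      rw [hfb g g.2, hfb h h.2]
      have h1 : fu g g.2 = fu h h.2 := congrArg (fun z : H × ZMod p => z.1.1) hgh
      have h2 : fb g g.2 = fb h h.2 := congrArg Prod.snd hgh
      rw [h1, h2]
    have h1 := Nat.card_le_card_of_injective f hf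
    rw [Nat.card_prod, Nat.card_zmod] at h1
    have h2 : p * (p - 1) ≤ p * (2 * Nat.card H) := by
      rw [← hN]; calc _ ≤ 2 * (Nat.card H * p) := by omega
        _ = _ := by ring
    exact Nat.le_of_mul_le_mul_left h2 hp.out.pos
  have hsquares : ∀ u : (ZMod p)ˣ, IsSquare u → u ∈ H := by
    rintro u ⟨v, rfl⟩
    have hidx : H.index ≤ 2 := by
      have h3 := H.card_mul_index
      rw [Nat.card_eq_fintype_card (α := (ZMod p)ˣ), ZMod.card_units] at h3
      have hpos : 0 < Nat.card H := Nat.card_pos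
      by_contra hlt
      have : Nat.card H * 3 ≤ Nat.card H * H.index := Nat.mul_le_mul_left _ (by omega)
      omega
    rcases (show H.index = 1 ∨ H.index = 2 by have := H.index_ne_zero_of_finite; omega) with h | h
    · rw [Subgroup.index_eq_one.1 h]; trivial
    · exact Subgroup.mul_self_mem_of_index_two h v
  refine ⟨e, he0, heβ, hstab, fun u t hu => ?_⟩
  obtain ⟨g, hg⟩ := hsquares u hu
  refine ⟨σ ^ t.val * g, fun i => ?_⟩
  have h1 := hg i
  rw [hιc, Equiv.symm_apply_eq] at h1
  rw [mul_smul, h1, hen, ZMod.natCast_zmod_val]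

end Cfsg.Agent.HalfNorm
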