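import Mathlib.FieldTheory.Finite.Basic
import Mathlib.NumberTheory.LegendreSymbol.QuadraticChar.Basic
import Mathlib.Tactic.LinearCombination

/-!
# Linear spaces invariant under translations and square scalings

Such a space with lines of at least three and fewer than `p` points has three points on each
line, and one line is `c + a {1, w, w²}` with `w - 1` a square.
-/

set_option autoImplicit false

namespace Cfsg.Agent.HalfNorm

theorem line_size {p : ℕ} [hp : Fact p.Prime] (hp5 : 5 ≤ p) (L : ZMod p → ZMod p → Finset (ZMod p))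
    {k : ℕ} (hk : 3 ≤ k) (hkp : k < p) (hmem : ∀ x y, x ≠ y → x ∈ L x y ∧ y ∈ L x y)
    (hcard : ∀ x y, x ≠ y → (L x y).card = k)
    (hclosed : ∀ x y z, x ≠ y → z ∈ L x y → z ≠ x → L x z = L x y)
    (hsymm : ∀ x y, x ≠ y → L y x = L x y)
    (haff : ∀ (u : (ZMod p)ˣ) (t : ZMod p), IsSquare u → ∀ x y, x ≠ y →
      L (u * x + t) (u * y + t) = (L x y).image (fun i => (u : ZMod p) * i + t)) :
    k = 3 ∧ ∃ w c a : ZMod p, w ^ 2 + w + 1 = 0 ∧ IsSquare (w - 1) ∧ a ≠ 0 ∧
      c + a ≠ c + a * w ∧ L (c + a) (c + a * w) = {c + a, c + a * w, c + a * w ^ 2} := by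
  classical
  have h01 : (0 : ZMod p) ≠ 1 := zero_ne_one
  set L₀ := L 0 1 with hL₀
  -- all lines
  set Ls := (Finset.univ : Finset (ZMod p)).offDiag.image (fun q => L q.1 q.2) with hLs
  have hfib : ∀ ℓ ∈ Ls, ((Finset.univ : Finset (ZMod p)).offDiag.filter (fun q => L q.1 q.2 = ℓ)).card
      = k * k - k := by
    intro ℓ hℓ
    obtain ⟨⟨a, b⟩, hab, rfl⟩ := Finset.mem_image.1 hℓ
    have hne : a ≠ b := (Finset.mem_offDiag.1 hab).2.2
    suffices h : (Finset.univ : Finset (ZMod p)).offDiag.filter (fun q => L q.1 q.2 = L a b) = (L a b).offDiag by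
      rw [h, Finset.offDiag_card, hcard a b hne]
    ext ⟨x, y⟩
    simp only [Finset.mem_filter, Finset.mem_offDiag, Finset.mem_univ, true_and]
    constructor
    · rintro ⟨hxy, he⟩
      rw [← he]
      exact ⟨(hmem x y hxy).1, (hmem x y hxy).2, hxy⟩
    · rintro ⟨hx, hy, hxy⟩
      refine ⟨hxy, ?_⟩
      by_cases hxa : x = a
      · subst hxa
        exact hclosed x b y hne hy hxy.symm
      · have h1 : L x a = L a b := by rw [hsymm a x (Ne.symm hxa)]; exact hclosed a b x hne hx hxa
        rw [hclosed x a y hxa (h1.symm ▸ hy) hxy.symm, h1]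
  have hcount : p * p - p = Ls.card * (k * k - k) := by
    have h := Finset.card_eq_sum_card_fiberwise (f := fun q : ZMod p × ZMod p => L q.1 q.2)
      (s := (Finset.univ : Finset (ZMod p)).offDiag) (t := Ls) (fun q hq => Finset.mem_image_of_mem _ hq)
    rw [Finset.sum_congr rfl hfib, Finset.sum_const, smul_eq_mul, Finset.offDiag_card,
      Finset.card_univ, ZMod.card] at h
    exact h
  -- the affine maps with square multiplier
  let f : (ZMod p)ˣ × ZMod p → Finset (ZMod p) := fun q => L₀.image (fun i => (q.1 : ZMod p) * i + q.2)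
  set Aff := (Finset.univ.filter fun u : (ZMod p)ˣ => IsSquare u) ×ˢ (Finset.univ : Finset (ZMod p))
  set St := Aff.filter (fun q => f q = L₀) with hSt
  have hmemAff : ∀ q, q ∈ Aff ↔ IsSquare q.1 := fun q => by simp [Aff]
  have hline : ∀ q ∈ Aff, f q ∈ Ls := by
    intro q hq
    refine Finset.mem_image.2 ⟨((q.1 : ZMod p) * 0 + q.2, (q.1 : ZMod p) * 1 + q.2), ?_, ?_⟩
    · simp
    · exact haff q.1 q.2 ((hmemAff q).1 hq) 0 1 h01
  have hfibAff : ∀ ℓ ∈ Aff.image f, (Aff.filter (fun q => f q = ℓ)).card ≤ St.card := by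
    intro ℓ hℓ
    obtain ⟨q₀, hq₀, rfl⟩ := Finset.mem_image.1 hℓ
    refine Finset.card_le_card_of_injOn
      (fun q => (q₀.1⁻¹ * q.1, ((q₀.1⁻¹ : (ZMod p)ˣ) : ZMod p) * (q.2 - q₀.2))) ?_ ?_
    · intro q hq
      rw [Finset.mem_coe, Finset.mem_filter] at hq
      rw [Finset.mem_coe, hSt, Finset.mem_filter, hmemAff]
      refine ⟨(((hmemAff q₀).1 hq₀).inv).mul ((hmemAff q).1 hq.1), ?_⟩
      have h := congrArg (Finset.image fun i => ((q₀.1⁻¹ : (ZMod p)ˣ) : ZMod p) * (i - q₀.2)) hq.2
      simp only [f, Finset.image_image, Function.comp_def] at h ⊢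
      rw [show (fun i : ZMod p => ((q₀.1⁻¹ * q.1 : (ZMod p)ˣ) : ZMod p) * i +
          ((q₀.1⁻¹ : (ZMod p)ˣ) : ZMod p) * (q.2 - q₀.2)) =
          fun i => ((q₀.1⁻¹ : (ZMod p)ˣ) : ZMod p) * ((q.1 : ZMod p) * i + q.2 - q₀.2) by
        funext i; rw [Units.val_mul]; ring, h]
      show L₀.image _ = L₀
      conv_rhs => rw [← Finset.image_id (s := L₀)]
      refine Finset.image_congr fun i _ => ?_
      show ((q₀.1⁻¹ : (ZMod p)ˣ) : ZMod p) * ((q₀.1 : ZMod p) * i + q₀.2 - q₀.2) = i
      rw [add_sub_cancel_right, Units.inv_mul_cancel_left]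
    · intro q _ q' _ he
      simp only [Prod.mk.injEq, mul_right_inj] at he
      have h2 := mul_left_cancel₀ (Units.ne_zero _) he.2
      exact Prod.ext he.1 (sub_left_injective h2)
  have hAff : Aff.card ≤ St.card * Ls.card :=
    (Finset.card_le_mul_card_image Aff St.card hfibAff).trans
      (Nat.mul_le_mul_left _ (Finset.card_le_card (Finset.image_subset_iff.2 hline)))
  have hSq : p * p - p ≤ 2 * Aff.card := by
    have h1 : (Finset.univ : Finset (ZMod p)ˣ).card ≤
        2 * ((Finset.univ : Finset (ZMod p)ˣ).image (fun u => u * u)).card := by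
      refine Finset.card_le_mul_card_image _ 2 fun v hv => ?_
      obtain ⟨u, -, rfl⟩ := Finset.mem_image.1 hv
      refine (Finset.card_le_card (t := {u, -u}) fun z hz => ?_).trans Finset.card_le_two
      rw [Finset.mem_filter] at hz
      rcases mul_self_eq_mul_self_iff.1 (show (z : ZMod p) * z = (u : ZMod p) * u by
        rw [← Units.val_mul, ← Units.val_mul, hz.2]) with h | h
      · simp [Units.ext h]
      · simp [show z = -u from Units.ext h]
    have h2 : ((Finset.univ : Finset (ZMod p)ˣ).image (fun u => u * u)) =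
        Finset.univ.filter fun u : (ZMod p)ˣ => IsSquare u := by
      ext u
      constructor
      · intro hu
        obtain ⟨a, -, ha⟩ := Finset.mem_image.1 hu
        exact Finset.mem_filter.2 ⟨Finset.mem_univ _, a, ha.symm⟩
      · intro hu
        obtain ⟨a, ha⟩ := (Finset.mem_filter.1 hu).2
        exact Finset.mem_image.2 ⟨a, Finset.mem_univ _, ha.symm⟩
    rw [h2, Finset.card_univ, ZMod.card_units] at h1
    rw [Finset.card_product, Finset.card_univ, ZMod.card]
    calc p * p - p = (p - 1) * p := by rw [Nat.sub_mul, one_mul]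
      _ ≤ _ := by rw [← mul_assoc]; exact Nat.mul_le_mul_right _ h1
  have hbound : k * k - k ≤ 2 * St.card := by
    have hpos : 0 < Ls.card := Finset.card_pos.2 ⟨L₀, Finset.mem_image.2 ⟨(0, 1), by simp, rfl⟩⟩
    refine Nat.le_of_mul_le_mul_left ?_ hpos
    rw [← hcount]
    calc p * p - p ≤ 2 * Aff.card := hSq
      _ ≤ 2 * (St.card * Ls.card) := Nat.mul_le_mul_left _ hAff
      _ = Ls.card * (2 * St.card) := by ring
  -- the stabiliser of the first line fixes a point
  have hStmem : ∀ q, q ∈ St ↔ IsSquare q.1 ∧ f q = L₀ := fun q => by rw [hSt, Finset.mem_filter, hmemAff]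
  have hone : ((1 : (ZMod p)ˣ), (0 : ZMod p)) ∈ St := by
    rw [hStmem]; exact ⟨⟨1, (one_mul 1).symm⟩, by simp [f, Finset.image_id']⟩
  have hcomp : ∀ q ∈ St, ∀ r ∈ St, (q.1 * r.1, (q.1 : ZMod p) * r.2 + q.2) ∈ St := by
    intro q hq r hr
    rw [hStmem] at hq hr ⊢
    refine ⟨hq.1.mul hr.1, ?_⟩
    have e : f (q.1 * r.1, (q.1 : ZMod p) * r.2 + q.2) =
        (f r).image (fun i => (q.1 : ZMod p) * i + q.2) := by
      simp only [f, Finset.image_image, Function.comp_def]
      refine Finset.image_congr fun i _ => ?_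
      show ((q.1 * r.1 : (ZMod p)ˣ) : ZMod p) * i + _ = _
      rw [Units.val_mul]
      ring
    rw [e, hr.2]
    exact hq.2
  have hinjSt : ∀ q ∈ St, ∀ r ∈ St, q.1 = r.1 → q.2 = r.2 := by
    intro q hq r hr he
    rw [hStmem] at hq hr
    by_contra hne
    set d := r.2 - q.2
    have hd : d ≠ 0 := sub_ne_zero.2 (Ne.symm hne)
    have hinv : ∀ i ∈ L₀, i + d ∈ L₀ := by
      intro i hi
      rw [← hq.2] at hi
      obtain ⟨j, hj, rfl⟩ := Finset.mem_image.1 hi
      rw [← hr.2]
      exact Finset.mem_image.2 ⟨j, hj, by rw [he]; ring⟩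
    have hn : ∀ n : ℕ, (0 : ZMod p) + n * d ∈ L₀ := by
      intro n
      induction n with
      | zero => simpa [hL₀] using (hmem 0 1 h01).1
      | succ n ih =>
        have h := hinv _ ih
        convert h using 1
        push_cast
        ring
    have hall : L₀ = Finset.univ := Finset.eq_univ_of_forall fun z => by
      have h := hn (z * d⁻¹).val
      rwa [ZMod.natCast_zmod_val, zero_add, inv_mul_cancel_right₀ hd] at h
    have := hcard 0 1 h01
    rw [← hL₀, hall, Finset.card_univ, ZMod.card] at this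
    omega
  obtain ⟨q₁, hq₁, hu₁⟩ : ∃ q ∈ St, q.1 ≠ 1 := by
    by_contra hno
    push Not at hno
    have : St.card ≤ 1 := Finset.card_le_one.2 fun q hq r hr =>
      Prod.ext ((hno q hq).trans (hno r hr).symm) (hinjSt q hq r hr ((hno q hq).trans (hno r hr).symm))
    have : 3 * 3 - 3 ≤ k * k - k := by
      rw [← Nat.mul_sub_one, ← Nat.mul_sub_one]
      exact Nat.mul_le_mul hk (by omega)
    omega
  set c := q₁.2 / (1 - (q₁.1 : ZMod p)) with hc
  have hu₁' : (1 : ZMod p) - (q₁.1 : ZMod p) ≠ 0 := fun h => hu₁ (Units.ext (sub_eq_zero.1 h).symm)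
  have hfixc : ∀ q ∈ St, q.2 = c * (1 - (q.1 : ZMod p)) := by
    intro q hq
    have h := hinjSt _ (hcomp q hq q₁ hq₁) _ (hcomp q₁ hq₁ q hq) (mul_comm _ _)
    simp only at h
    rw [hc, div_mul_eq_mul_div, eq_div_iff hu₁']
    linear_combination h
  set U := St.image (fun q => q.1)
  have hUcard : U.card = St.card :=
    Finset.card_image_of_injOn fun q hq r hr he => Prod.ext he (hinjSt q hq r hr he)
  have hUone : (1 : (ZMod p)ˣ) ∈ U := Finset.mem_image.2 ⟨_, hone, rfl⟩
  have hUmul : ∀ u ∈ U, ∀ v ∈ U, u * v ∈ U := by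
    intro u hu v hv
    obtain ⟨q, hq, rfl⟩ := Finset.mem_image.1 hu
    obtain ⟨r, hr, rfl⟩ := Finset.mem_image.1 hv
    exact Finset.mem_image.2 ⟨_, hcomp q hq r hr, rfl⟩
  have hmove : ∀ u ∈ U, ∀ x ∈ L₀, c + (u : ZMod p) * (x - c) ∈ L₀ := by
    intro u hu x hx
    obtain ⟨q, hq, rfl⟩ := Finset.mem_image.1 hu
    rw [← ((hStmem q).1 hq).2]
    exact Finset.mem_image.2 ⟨x, hx, by rw [hfixc q hq]; ring⟩
  obtain ⟨x, hx, hxc⟩ : ∃ x ∈ L₀, x ≠ c :=
    Finset.exists_mem_ne (show 1 < L₀.card by rw [hcard 0 1 h01]; omega) c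
  set a := x - c
  have ha : a ≠ 0 := sub_ne_zero.2 hxc
  have horbit : (U.image fun u : (ZMod p)ˣ => c + (u : ZMod p) * a).card = U.card := by
    refine Finset.card_image_of_injective _ fun u v he => Units.ext ?_
    exact mul_right_cancel₀ ha (add_left_cancel he)
  have hsub : (U.image fun u : (ZMod p)ˣ => c + (u : ZMod p) * a) ⊆ L₀.erase c := by
    intro z hz
    obtain ⟨u, hu, rfl⟩ := Finset.mem_image.1 hz
    exact Finset.mem_erase.2 ⟨fun h => mul_ne_zero u.ne_zero ha (add_eq_left.1 h), hmove u hu x hx⟩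
  have hle := Finset.card_le_card hsub
  rw [horbit, hUcard] at hle
  have hcn : c ∉ L₀ := by
    intro hcL
    rw [Finset.card_erase_of_mem hcL, hcard 0 1 h01] at hle
    have h3 : 3 * (k - 1) ≤ k * (k - 1) := Nat.mul_le_mul_right _ hk
    rw [Nat.mul_sub_one k] at h3
    omega
  rw [Finset.erase_eq_of_notMem hcn, hcard 0 1 h01] at hle
  have hk3 : k = 3 := by
    by_contra hne
    have h3 : 4 * (k - 1) ≤ k * (k - 1) := Nat.mul_le_mul_right _ (by omega)
    rw [Nat.mul_sub_one k] at h3
    omega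
  refine ⟨hk3, ?_⟩
  subst hk3
  have hU3 : U.card = 3 := by omega
  have hL₀eq : L₀ = U.image fun u : (ZMod p)ˣ => c + (u : ZMod p) * a := by
    rw [Finset.erase_eq_of_notMem hcn] at hsub
    exact (Finset.eq_of_subset_of_card_le hsub (by rw [hcard 0 1 h01, horbit, hU3])).symm
  obtain ⟨u, hu, hu1⟩ : ∃ u ∈ U, u ≠ (1 : (ZMod p)ˣ) :=
    Finset.exists_mem_ne (show 1 < U.card by omega) 1
  have huu1 : u * u ≠ 1 := by
    intro h2
    obtain ⟨v, hv, hvn⟩ : ∃ v ∈ U, v ∉ ({1, u} : Finset (ZMod p)ˣ) :=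
      Finset.exists_mem_notMem_of_card_lt_card (lt_of_le_of_lt Finset.card_le_two (by omega))
    rw [Finset.mem_insert, Finset.mem_singleton, not_or] at hvn
    have hU : U = {1, u, v} := by
      refine (Finset.eq_of_subset_of_card_le ?_ ?_).symm
      · simp [Finset.insert_subset_iff, hUone, hu, hv]
      · rw [hU3, Finset.card_eq_three.2 ⟨1, u, v, hu1.symm, Ne.symm hvn.1, Ne.symm hvn.2, rfl⟩]
    have h3 := hUmul u hu v hv
    rw [hU, Finset.mem_insert, Finset.mem_insert, Finset.mem_singleton] at h3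
    rcases h3 with h | h | h
    · exact hvn.2 (mul_left_cancel (h.trans h2.symm))
    · exact hvn.1 (mul_left_cancel (h.trans (mul_one u).symm))
    · exact hu1 (mul_eq_right.1 h)
  have hU : U = {1, u, u * u} := by
    refine (Finset.eq_of_subset_of_card_le ?_ ?_).symm
    · simp [Finset.insert_subset_iff, hUone, hu, hUmul u hu u hu]
    · rw [hU3, Finset.card_eq_three.2 ⟨1, u, u * u, hu1.symm, Ne.symm huu1,
        fun h => hu1 (mul_eq_right.1 h.symm), rfl⟩]
  have hu3 : u * u * u = 1 := by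
    have h3 := hUmul _ (hUmul u hu u hu) u hu
    rw [hU, Finset.mem_insert, Finset.mem_insert, Finset.mem_singleton] at h3
    rcases h3 with h | h | h
    · exact h
    · exact absurd (mul_eq_right.1 h) huu1
    · exact absurd (mul_eq_left.1 h) hu1
  set v : ZMod p := u.val
  have hv3 : v * v * v = 1 := by rw [← Units.val_mul, ← Units.val_mul, hu3]; rfl
  have hv1 : v - 1 ≠ 0 := fun h => hu1 (Units.ext (sub_eq_zero.1 h))
  have hv : v ^ 2 + v + 1 = 0 :=
    (mul_eq_zero.1 (show (v - 1) * (v ^ 2 + v + 1) = 0 by linear_combination hv3)).resolve_left hv1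
  have hv0 : v ≠ 0 := u.ne_zero
  have h3ne : (3 : ZMod p) ≠ 0 := fun h => by
    have h' : ((3 : ℕ) : ZMod p) = 0 := by exact_mod_cast h
    rw [ZMod.natCast_eq_zero_iff] at h'
    have := Nat.le_of_dvd (by norm_num) h'
    omega
  have hset : L₀ = {c + a, c + a * v, c + a * v ^ 2} := by
    rw [hL₀eq, hU]
    simp only [Finset.image_insert, Finset.image_singleton, Units.val_one, Units.val_mul]
    rw [one_mul, mul_comm v a, sq, mul_comm (v * v) a]
  have hv2ne : v ^ 2 - 1 ≠ 0 := fun h => huu1 (Units.ext (by rw [Units.val_mul, Units.val_one]; linear_combination h))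
  have hne1 : c + a ≠ c + a * v := fun h => hv1 (by
    have h' : a * (v - 1) = 0 := by linear_combination -h
    exact (mul_eq_zero.1 h').resolve_left ha)
  have hne2 : c + a ≠ c + a * v ^ 2 := fun h => hv2ne (by
    have h' : a * (v ^ 2 - 1) = 0 := by linear_combination -h
    exact (mul_eq_zero.1 h').resolve_left ha)
  have hline0 : ∀ y z, y ≠ z → y ∈ L₀ → z ∈ L₀ → L y z = L₀ := by
    intro y z hyz hy hz
    by_cases hy0 : y = 0
    · subst hy0
      exact hclosed 0 1 z h01 hz hyz.symm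
    · have h1 : L y 0 = L₀ := by rw [hsymm 0 y (Ne.symm hy0)]; exact hclosed 0 1 y h01 hy hy0
      rw [hclosed y 0 z hy0 (h1.symm ▸ hz) hyz.symm, h1]
  have hm1 : ¬ IsSquare (-1 : ZMod p) := by
    rintro ⟨s, hs⟩
    have hs0 : s ≠ 0 := fun h => one_ne_zero (neg_eq_zero.1 (by rw [hs, h, mul_zero] : (-1 : ZMod p) = 0))
    have h := haff (-1) (2 * c + a + a * v)
      ⟨Units.mk0 s hs0, Units.ext (by simpa using hs)⟩ (c + a) (c + a * v) hne1
    have e1 : L (c + a * v) (c + a) = L₀ := hline0 _ _ hne1.symm (by simp [hset]) (by simp [hset])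
    rw [hline0 _ _ hne1 (by simp [hset]) (by simp [hset])] at h
    simp only [Units.val_neg, Units.val_one] at h
    rw [show -1 * (c + a) + (2 * c + a + a * v) = c + a * v by ring,
      show -1 * (c + a * v) + (2 * c + a + a * v) = c + a by ring, e1] at h
    have hm : -1 * (c + a * v ^ 2) + (2 * c + a + a * v) ∈ L₀ := by
      rw [h]; exact Finset.mem_image_of_mem _ (by simp [hset])
    rw [hset, Finset.mem_insert, Finset.mem_insert, Finset.mem_singleton] at hm
    have h8 : ∀ b : ZMod p, b * b * b = 1 → -2 * v ^ 2 = b → False := fun b hb he => by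
      apply mul_ne_zero h3ne h3ne
      rw [← he] at hb
      linear_combination -hb - 8 * (v * v * v + 1) * hv3
    rcases hm with h | h | h
    · exact h8 1 (by ring) (mul_left_cancel₀ ha (by linear_combination h - a * hv))
    · exact h8 v hv3 (mul_left_cancel₀ ha (by linear_combination h - a * hv))
    · exact h8 (v ^ 2) (by linear_combination (v * v * v + 1) * hv3)
        (mul_left_cancel₀ ha (by linear_combination h - a * hv))
  by_cases hs1 : IsSquare (v - 1)
  · exact ⟨v, c, a, hv, hs1, ha, hne1, by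
      rw [hline0 _ _ hne1 (by simp [hset]) (by simp [hset]), hset]⟩
  · have hs2 : IsSquare (v ^ 2 - 1) := by
      by_contra hs2
      rw [← quadraticChar_neg_one_iff_not_isSquare] at hs1 hs2
      have hone' : quadraticChar (ZMod p) ((v - 1) * (v ^ 2 - 1)) = 1 := by
        rw [map_mul, hs1, hs2]; norm_num
      rw [quadraticChar_one_iff_isSquare (mul_ne_zero hv1 hv2ne)] at hone'
      refine hm1 ?_
      obtain ⟨s, hs⟩ := hone'
      exact ⟨s * v ^ 2 / (v - 1), by
        rw [div_mul_div_comm, eq_div_iff (mul_ne_zero hv1 hv1)]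
        linear_combination v ^ 4 * hs - (v - 1) ^ 2 * (v ^ 3 - v + 1) * hv⟩
    refine ⟨v ^ 2, c, a, by linear_combination (v ^ 2 - v + 1) * hv, hs2, ha, hne2, ?_⟩
    rw [hline0 _ _ hne2 (by simp [hset]) (by simp [hset]), hset]
    have : (v ^ 2) ^ 2 = v := by linear_combination v * hv3
    rw [this]
    simp only [Finset.pair_comm (c + a * v)]

end Cfsg.Agent.HalfNorm
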