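import Cfsg.Agent.HalfNorm.Main

/-!
# Prime degree with half normaliser: the lines from a system of imprimitivity of a point stabiliser
-/

set_option autoImplicit false

namespace Cfsg.Agent.HalfNorm

open Cfsg

variable {p : ℕ} [hp : Fact p.Prime]

/-- A block of a point stabiliser gives an invariant linear space. -/
theorem exists_lines {G Ω : Type*} [Group G] [Finite G] [MulAction G Ω] [FaithfulSMul G Ω] [Fintype Ω]
    [DecidableEq Ω]
    (hΩ : Nat.card Ω = p) [MulAction.IsPretransitive G Ω] (hins : ¬ Group.IsSolvable G) (P : Sylow p G)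
    (hN : 2 * Nat.card ↥(Subgroup.normalizer ((P : Subgroup G) : Set G)) = p * (p - 1))
    (h2 : ∀ {a b c d : Ω}, a ≠ b → c ≠ d → ∃ g : G, g • a = c ∧ g • b = d)
    {α β : Ω} (B : Finset Ω) (hαB : α ∉ B) (hβB : β ∈ B)
    (hblock : ∀ g : G, g • α = α → g • β ∈ B → B.image (g • ·) = B)
    (hB2 : 2 ≤ B.card) (hBp : B.card + 2 ≤ p) :
    ∃ L : Ω → Ω → Finset Ω, (∀ x y, x ≠ y → x ∈ L x y ∧ y ∈ L x y) ∧
      (∀ x y, x ≠ y → (L x y).card = B.card + 1) ∧
      (∀ (g : G) x y, x ≠ y → L (g • x) (g • y) = (L x y).image (g • ·)) ∧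
      (∀ x y z, x ≠ y → z ∈ L x y → z ≠ x → L x z = L x y) ∧
      ∀ x y, x ≠ y → L y x = L x y := by
  classical
  have hαβ : α ≠ β := fun h => hαB (h ▸ hβB)
  set U := insert α B with hU
  have hfix : ∀ g : G, g • α = α → g • β = β → U.image (g • ·) = U := fun g hgα hgβ => by
    rw [hU, Finset.image_insert, hgα, hblock g hgα (by rw [hgβ]; exact hβB)]
  choose γ hγα hγβ using fun (x y : Ω) (h : x ≠ y) => h2 hαβ h
  let L : Ω → Ω → Finset Ω := fun x y => if h : x ≠ y then U.image ((γ x y h) • ·) else ∅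
  have hL : ∀ {x y : Ω} (g : G), g • α = x → g • β = y → L x y = U.image (g • ·) := by
    intro x y g hgx hgy
    have hxy : x ≠ y := fun h => hαβ (smul_left_cancel g (hgx.trans (h.trans hgy.symm)))
    simp only [L, dif_pos hxy]
    set k := γ x y hxy
    have h := hfix (g⁻¹ * k) (by rw [mul_smul, hγα, inv_smul_eq_iff, hgx])
      (by rw [mul_smul, hγβ, inv_smul_eq_iff, hgy])
    conv_rhs => rw [← h, Finset.image_image]
    refine Finset.image_congr fun z _ => ?_
    simp [mul_smul]
  have hequiv : ∀ (g : G) x y, x ≠ y → L (g • x) (g • y) = (L x y).image (g • ·) := by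
    intro g x y hxy
    rw [hL (γ x y hxy) (hγα x y hxy) (hγβ x y hxy), Finset.image_image,
      hL (g * γ x y hxy) (by rw [mul_smul, hγα]) (by rw [mul_smul, hγβ])]
    exact Finset.image_congr fun z _ => by simp [mul_smul]
  have hLαβ : L α β = U := by
    rw [hL 1 (one_smul G α) (one_smul G β)]
    simp
  have hclosed : ∀ z ∈ U, z ≠ α → L α z = U := by
    intro z hz hzα
    have hzB : z ∈ B := (Finset.mem_insert.1 hz).resolve_left hzα
    obtain ⟨g, hgα, hgβ⟩ := h2 hαβ hzα.symm
    rw [hL g hgα hgβ, hU, Finset.image_insert, hgα, hblock g hgα (by rw [hgβ]; exact hzB)]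
  -- symmetry at the base pair
  obtain ⟨h, hhα, hhβ⟩ := h2 hαβ hαβ.symm
  have hsymm : U.image (h • ·) = U := by
    set S := MulAction.stabilizer G α ⊓ MulAction.stabilizer G β
    let X := B.erase β
    let Y := X.image (h • ·)
    have hXinv : ∀ (g : S) z, z ∈ X → (g : G) • z ∈ X := by
      intro g z hz
      rw [Finset.mem_erase] at hz ⊢
      refine ⟨fun e => hz.1 (smul_left_cancel (g : G) (e.trans g.2.2.symm)), ?_⟩
      rw [← hblock (g : G) g.2.1 (by rw [show (g : G) • β = β from g.2.2]; exact hβB)]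
      exact Finset.mem_image_of_mem _ hz.2
    have hYinv : ∀ (g : S) z, z ∈ Y → (g : G) • z ∈ Y := by
      intro g z hz
      obtain ⟨x, hx, rfl⟩ := Finset.mem_image.1 hz
      have hgα : (g : G) • α = α := g.2.1
      have hgβ : (g : G) • β = β := g.2.2
      refine Finset.mem_image.2 ⟨(h⁻¹ * g * h) • x, hXinv ⟨h⁻¹ * g * h, ?_, ?_⟩ x hx, ?_⟩
      · show (h⁻¹ * g * h) • α = α
        rw [mul_smul, mul_smul, hhα, hgβ, inv_smul_eq_iff, hhα]
      · show (h⁻¹ * g * h) • β = β
        rw [mul_smul, mul_smul, hhβ, hgα, inv_smul_eq_iff, hhβ]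
      · show h • ((h⁻¹ * g * h) • x) = (g : G) • h • x
        rw [smul_smul, smul_smul]
        congr 1
        group
    have horb : ∀ {Z : Finset Ω}, (∀ (g : S) z, z ∈ Z → (g : G) • z ∈ Z) → ∀ {a b : Ω},
        b ∈ MulAction.orbit S a → (a ∈ Z ↔ b ∈ Z) := by
      intro Z hZ a b hb
      obtain ⟨g, rfl⟩ := hb
      refine ⟨hZ g a, fun hg => ?_⟩
      have := hZ g⁻¹ _ hg
      simpa [Subgroup.smul_def, smul_smul] using this
    have hXα : ∀ z ∈ X, z ≠ α ∧ z ≠ β := fun z hz =>
      ⟨fun e => hαB (e ▸ (Finset.mem_erase.1 hz).2), (Finset.mem_erase.1 hz).1⟩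
    have hYα : ∀ z ∈ Y, z ≠ α ∧ z ≠ β := fun z hz => by
      obtain ⟨x, hx, rfl⟩ := Finset.mem_image.1 hz
      exact ⟨fun e => (hXα x hx).2 (smul_left_cancel h (e.trans hhβ.symm)),
        fun e => (hXα x hx).1 (smul_left_cancel h (e.trans hhα.symm))⟩
    have hcardY : Y.card = X.card := Finset.card_image_of_injective _ (MulAction.injective h)
    -- three points separated by `X` and `Y` lie in three orbits
    have hsep : ∀ a b c : Ω, a ≠ α ∧ a ≠ β → b ≠ α ∧ b ≠ β → c ≠ α ∧ c ≠ β →
        ¬ ((a ∈ X ↔ b ∈ X) ∧ (a ∈ Y ↔ b ∈ Y)) → ¬ ((a ∈ X ↔ c ∈ X) ∧ (a ∈ Y ↔ c ∈ Y)) →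
        ¬ ((b ∈ X ↔ c ∈ X) ∧ (b ∈ Y ↔ c ∈ Y)) → False := by
      intro a b c ha hb hc hab hac hbc
      refine no_three_orbits hΩ hins P hN hαβ ![a, b, c] ?_ ?_ ?_
      · intro i; fin_cases i <;> [exact ha.1; exact hb.1; exact hc.1]
      · intro i; fin_cases i <;> [exact ha.2; exact hb.2; exact hc.2]
      · intro i j hij
        have h1 := horb hXinv hij
        have h2 := horb hYinv hij
        fin_cases i <;> fin_cases j <;> first
          | rfl
          | exact (hab ⟨h1, h2⟩).elim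
          | exact (hab ⟨h1.symm, h2.symm⟩).elim
          | exact (hac ⟨h1, h2⟩).elim
          | exact (hac ⟨h1.symm, h2.symm⟩).elim
          | exact (hbc ⟨h1, h2⟩).elim
          | exact (hbc ⟨h1.symm, h2.symm⟩).elim
    have hXY : Y = X := by
      by_contra hne
      obtain ⟨z, hzX, hzY⟩ : ∃ z, z ∈ X ∧ z ∉ Y := by
        by_contra hno
        push Not at hno
        exact hne (Finset.eq_of_subset_of_card_le hno hcardY.le).symm
      obtain ⟨z', hzY', hzX'⟩ : ∃ z, z ∈ Y ∧ z ∉ X := by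
        by_contra hno
        push Not at hno
        exact hne (Finset.eq_of_subset_of_card_le hno hcardY.ge)
      by_cases hint : ∃ w, w ∈ X ∧ w ∈ Y
      · obtain ⟨w, hwX, hwY⟩ := hint
        exact hsep z z' w (hXα z hzX) (hYα z' hzY') (hXα w hwX) (fun e => hzX' (e.1.1 hzX))
          (fun e => hzY (e.2.2 hwY)) (fun e => hzX' (e.1.2 hwX))
      push Not at hint
      by_cases hout : ∃ w, w ∉ X ∧ w ∉ Y ∧ w ≠ α ∧ w ≠ β
      · obtain ⟨w, hwX, hwY, hwα⟩ := hout
        exact hsep z z' w (hXα z hzX) (hYα z' hzY') hwα (fun e => hzX' (e.1.1 hzX))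
          (fun e => hwX (e.1.1 hzX)) (fun e => hwY (e.2.1 hzY'))
      push Not at hout
      have hun : X ∪ Y = (Finset.univ.erase α).erase β := by
        ext w
        simp only [Finset.mem_union, Finset.mem_erase, Finset.mem_univ, and_true]
        constructor
        · rintro (hw | hw)
          · exact ⟨(hXα w hw).2, (hXα w hw).1⟩
          · exact ⟨(hYα w hw).2, (hYα w hw).1⟩
        · intro hw
          by_contra hno
          push Not at hno
          exact hw.1 (hout w hno.1 hno.2 hw.2)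
      have hc := congrArg Finset.card hun
      rw [Finset.card_union_of_disjoint (Finset.disjoint_left.2 hint), hcardY,
        Finset.card_erase_of_mem (Finset.mem_erase.2 ⟨hαβ.symm, Finset.mem_univ β⟩),
        Finset.card_erase_of_mem (Finset.mem_univ α), Finset.card_univ, ← Nat.card_eq_fintype_card, hΩ] at hc
      have hodd : p % 2 = 1 := (Nat.Prime.eq_two_or_odd hp.out).resolve_left (by omega)
      omega
    have hUX : U = insert α (insert β X) := by
      show insert α B = _
      rw [Finset.insert_erase hβB]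
    rw [hUX, Finset.image_insert, Finset.image_insert, hhα, hhβ, show X.image (h • ·) = X from hXY,
      Finset.insert_comm]
  refine ⟨L, fun x y hxy => ?_, fun x y hxy => ?_, hequiv, fun x y z hxy hz hzx => ?_, fun x y hxy => ?_⟩
  all_goals obtain ⟨g, rfl, rfl⟩ := h2 hαβ hxy
  · rw [hL g rfl rfl]
    exact ⟨Finset.mem_image_of_mem _ (Finset.mem_insert_self _ _),
      Finset.mem_image_of_mem _ (Finset.mem_insert_of_mem hβB)⟩
  · rw [hL g rfl rfl, Finset.card_image_of_injective _ (MulAction.injective g),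
      Finset.card_insert_of_notMem hαB]
  · rw [hL g rfl rfl] at hz ⊢
    obtain ⟨w, hw, rfl⟩ := Finset.mem_image.1 hz
    have hwα : w ≠ α := fun e => hzx (by rw [e])
    show L (g • α) (g • w) = _
    rw [hequiv g α w hwα.symm, hclosed w hw hwα]
  · rw [hL g rfl rfl, hequiv g β α hαβ.symm, hL h hhα hhβ, hsymm]

end Cfsg.Agent.HalfNorm
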