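import Cfsg.Agent.HalfNorm.Rank
import Cfsg.Agent.HalfNorm.Label
import Cfsg.Agent.S0675

/-!
# Prime degree with half normaliser: two-point stabilisers have at most four orbits
-/

set_option autoImplicit false

namespace Cfsg.Agent.HalfNorm

open Cfsg

variable {p : ℕ} [hp : Fact p.Prime]

theorem no_three_sets {G : Subgroup (Equiv.Perm (ZMod p))} [MulAction.IsPretransitive G (ZMod p)]
    (hG : ¬ Group.IsSolvable G) (h2 : MulAction.IsMultiplyPretransitive G (ZMod p) 2)
    (hσ : ∃ σ : G, ∀ x, σ.1 x = x + 1)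
    (hsq : ∀ u : (ZMod p)ˣ, IsSquare u → ∃ g : G, ∀ x, g.1 x = u * x)
    (hst : ¬ p ∣ Nat.card (MulAction.stabilizer G ((0, 1) : Prs p)))
    (S : Fin 3 → Set (ZMod p)) (hne : ∀ i, (S i).Nonempty)
    (hdis : ∀ i j, ∀ x ∈ S i, x ∈ S j → i = j) (h0 : ∀ i, (0 : ZMod p) ∉ S i)
    (h1 : ∀ i, (1 : ZMod p) ∉ S i)
    (hinv : ∀ g : G, g.1 0 = 0 → g.1 1 = 1 → ∀ i x, g.1 x ∈ S i ↔ x ∈ S i) : False := by
  classical
  let ind : Fin 3 → ZMod p → ZMod p := fun i x => if x ∈ S i then 1 else 0
  let c : Tri p := fun i x => ind i x - if x = 0 then ∑ y, ind i y else 0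
  refine no_three hG h2 hσ hsq hst c (fun i => ?_) (fun g hg => ?_) (fun a ha => ?_)
  · simp [c, Finset.sum_sub_distrib]
  · have hg0 : g.1 0 = 0 := congrArg Prod.fst hg
    have hg1 : g.1 1 = 1 := by
      have h2' := congrArg (fun x : Prs p => (x.2 : ZMod p)) hg
      simp only [smul_snd] at h2'
      simpa [hg0] using h2'
    funext i x
    rw [triRep_apply, Cfsg.Agent.PermGroups.permRep_apply]
    have hgi : g.1 (g⁻¹ • x) = x := smul_inv_smul g x
    have e1 : ind i (g⁻¹ • x) = ind i x := by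
      have := hinv g hg0 hg1 i (g⁻¹ • x)
      rw [hgi] at this
      simp only [ind, this]
    have e2 : (g⁻¹ • x = 0) ↔ x = 0 := by
      constructor
      · intro h; rw [← hgi, h, hg0]
      · rintro rfl; exact g.1.injective (hgi.trans hg0.symm)
    simp only [c, e1, e2]
  · have hc0 : ∀ x, ∑ i, a i * c i x = ∑ i, a i * c i 1 := fun x => by rw [ha x, ha 1]
    funext i
    obtain ⟨x, hx⟩ := hne i
    have hx0 : x ≠ 0 := fun h => h0 i (h ▸ hx)
    have hz : ∀ j, c j 1 = 0 := fun j => by simp [c, ind, h1 j]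
    have hxj : ∀ j, c j x = if j = i then 1 else 0 := fun j => by
      by_cases h : j = i
      · subst h; simp [c, ind, hx, hx0]
      · have : x ∉ S j := fun hj => h (hdis j i x hj hx)
        simp [c, ind, this, hx0, h]
    simpa [hz, hxj] using hc0 x

/-- Around any two points there are no three non-trivial orbits. -/
theorem no_three_orbits {G Ω : Type*} [Group G] [Finite G] [MulAction G Ω] [FaithfulSMul G Ω] [Finite Ω]
    (hΩ : Nat.card Ω = p) [MulAction.IsPretransitive G Ω] (hins : ¬ Group.IsSolvable G) (P : Sylow p G)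
    (hN : 2 * Nat.card ↥(Subgroup.normalizer ((P : Subgroup G) : Set G)) = p * (p - 1))
    {α β : Ω} (hαβ : α ≠ β) (x : Fin 3 → Ω) (hxα : ∀ i, x i ≠ α) (hxβ : ∀ i, x i ≠ β)
    (hx : ∀ i j, x j ∈ MulAction.orbit ↥(MulAction.stabilizer G α ⊓ MulAction.stabilizer G β) (x i) → i = j) :
    False := by
  classical
  have := Fintype.ofFinite Ω
  obtain ⟨e, he0, heβ, hstab, haffine⟩ := exists_label hΩ P hN hαβ
  let φ : G →* Equiv.Perm (ZMod p) := e.symm.permCongrHom.toMonoidHom.comp (MulAction.toPermHom G Ω)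
  have hφinj : Function.Injective φ :=
    e.symm.permCongrHom.injective.comp MulAction.toPerm_injective
  let G' := φ.range
  let ι : G ≃* G' := MonoidHom.ofInjective hφinj
  have hιc : ∀ g i, (ι g).1 i = e.symm (g • e i) := fun g i => rfl
  have : MulAction.IsPretransitive G' (ZMod p) := ⟨fun a b => by
    obtain ⟨g, hg⟩ := MulAction.exists_smul_eq G (e a) (e b)
    exact ⟨ι g, by show (ι g).1 a = b; rw [hιc, hg, Equiv.symm_apply_apply]⟩⟩
  have hG' : ¬ Group.IsSolvable G' := fun h => hins (Group.isSolvable_of_isSolvable_injective (f := ι.toMonoidHom) ι.injective)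
  have h2' : MulAction.IsMultiplyPretransitive G' (ZMod p) 2 :=
    (Cfsg.Agent.S0675.result (by rw [ZMod.card]; exact hp.out) G').resolve_left hG'
  have hgen : ∀ (u : (ZMod p)ˣ) (t : ZMod p), IsSquare u → ∃ g : G, ∀ i, (ι g).1 i = u * i + t :=
    fun u t hu => (haffine u t hu).imp fun g hg i => by rw [hιc, hg, Equiv.symm_apply_apply]
  refine no_three_sets hG' h2'
    ((hgen 1 1 ⟨1, (one_mul 1).symm⟩).elim fun g hg => ⟨ι g, fun i => by rw [hg, Units.val_one, one_mul]⟩)
    (fun u hu => (hgen u 0 hu).elim fun g hg => ⟨ι g, fun i => by rw [hg, add_zero]⟩) ?_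
    (fun j => e ⁻¹' MulAction.orbit ↥(MulAction.stabilizer G α ⊓ MulAction.stabilizer G β) (x j))
    (fun j => ⟨e.symm (x j), by simp⟩) (fun i j y hi hj => ?_) (fun j h => ?_) (fun j h => ?_)
    (fun g hg0 hg1 j y => ?_)
  · intro h
    have hle : MulAction.stabilizer G' ((0, 1) : Prs p) ≤ (MulAction.stabilizer G α).map ι.toMonoidHom := by
      intro g hg
      obtain ⟨g, rfl⟩ := ι.surjective g
      have h0 : (ι g).1 0 = 0 := congrArg Prod.fst hg
      rw [hιc, Equiv.symm_apply_eq, he0] at h0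
      exact ⟨g, h0, rfl⟩
    have h3 := h.trans (Subgroup.card_dvd_of_le hle)
    rw [Subgroup.card_map_of_injective (f := ι.toMonoidHom) ι.injective] at h3
    exact hstab α h3
  · refine hx i j ?_
    rw [← MulAction.orbit_eq_iff.2 hi, MulAction.orbit_eq_iff.2 hj]
    exact MulAction.mem_orbit_self _
  · obtain ⟨g, hg⟩ := MulAction.orbit_eq_iff.2 h ▸ MulAction.mem_orbit_self (x j)
    refine hxα j ?_
    rw [← hg]
    simp only [he0]
    exact g.2.1
  · obtain ⟨g, hg⟩ := MulAction.orbit_eq_iff.2 h ▸ MulAction.mem_orbit_self (x j)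
    refine hxβ j ?_
    rw [← hg]
    simp only [heβ]
    exact g.2.2
  · obtain ⟨g, rfl⟩ := ι.surjective g
    rw [hιc, Equiv.symm_apply_eq, he0] at hg0
    rw [hιc, Equiv.symm_apply_eq, heβ] at hg1
    simp only [Set.mem_preimage]
    rw [hιc, Equiv.apply_symm_apply]
    constructor
    · intro h
      have := MulAction.mem_orbit_of_mem_orbit (⟨g, hg0, hg1⟩⁻¹ : ↥(MulAction.stabilizer G α ⊓ MulAction.stabilizer G β)) h
      simpa [Subgroup.smul_def] using this
    · intro h
      exact MulAction.mem_orbit_of_mem_orbit (⟨g, hg0, hg1⟩ : ↥(MulAction.stabilizer G α ⊓ MulAction.stabilizer G β)) h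

end Cfsg.Agent.HalfNorm
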