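import Mathlib.Algebra.Group.Even
import Mathlib.NumberTheory.LegendreSymbol.QuadraticChar.Basic
import Mathlib.Tactic.LinearCombination

/-!
# The Netto systems have no group transitive on the points off a line

`third x y` is the third point of the line through `x` and `y` in the triple system with lines
`b + h {1, w, w²}`, `h` a square.  A relation among third points holds at `0` and fails at a
second point, so no automorphism fixing `1, w, w²` carries one to the other.
-/

set_option autoImplicit false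

namespace Cfsg.Agent.HalfNorm

theorem netto_false {F : Type*} [Field F] [Finite F] (w : F) (hw : w ^ 2 + w + 1 = 0)
    (h2 : (2 : F) ≠ 0) (h3 : (3 : F) ≠ 0) (h7 : (7 : F) ≠ 0) (hw1 : IsSquare (w - 1))
    (third : F → F → F) (hs : ∀ x y, x ≠ y → third y x = third x y)
    (hP : ∀ x y, x ≠ y → IsSquare (y - x) → third x y = x - (y - x) * w ^ 2)
    (htrans : ∀ e, e ≠ 1 → e ≠ w → e ≠ w ^ 2 → ∃ σ : Equiv.Perm F, σ 0 = e ∧ σ 1 = 1 ∧ σ w = w ∧
      σ (w ^ 2) = w ^ 2 ∧ ∀ x y, x ≠ y → third (σ x) (σ y) = σ (third x y)) : False := by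
  -- non-vanishing by norms
  have nz : ∀ a b : F, a * a - a * b + b * b ≠ 0 → a + b * w ≠ 0 := fun a b hn h =>
    hn (by linear_combination (a - b - b * w) * h + b * b * hw)
  have hw0 : w ≠ 0 := fun h => nz 0 1 (by norm_num) (by rw [h]; ring)
  have hw20 : w ^ 2 ≠ 0 := pow_ne_zero 2 hw0
  have hw10 : w - 1 ≠ 0 := fun h => nz (-1) 1 (by norm_num; exact h3) (by linear_combination h)
  -- the two forms of a step
  have stepP : ∀ x y D z : F, IsSquare D → D ≠ 0 → y - x = D → z = x - D * w ^ 2 →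
      x ≠ y ∧ third x y = z := by
    intro x y D z hD hD0 hxy hz
    have hne : x ≠ y := fun h => hD0 (by rw [← hxy, h, sub_self])
    exact ⟨hne, by rw [hP x y hne (hxy.symm ▸ hD), hxy, hz]⟩
  have stepN : ∀ x y D z : F, IsSquare D → D ≠ 0 → x - y = D → z = y - D * w ^ 2 →
      x ≠ y ∧ third x y = z := by
    intro x y D z hD hD0 hxy hz
    obtain ⟨hne, h⟩ := stepP y x D z hD hD0 hxy hz
    exact ⟨hne.symm, by rw [← hs y x hne] at h; exact h⟩
  have sqw : IsSquare w := ⟨w ^ 2, by linear_combination -(w * (w - 1)) * hw⟩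
  have sqw2 : IsSquare (w ^ 2) := ⟨w, sq w⟩
  have sq1 : IsSquare (1 : F) := ⟨1, (one_mul 1).symm⟩
  have sqm : ∀ {a b : F}, IsSquare a → IsSquare b → IsSquare (a * b) := fun ha hb => ha.mul hb
  -- two is a square up to sign, as minus one is not a square
  have htwo : IsSquare (2 : F) ∨ IsSquare (-2 : F) := by
    classical
    have := Fintype.ofFinite F
    by_cases h : IsSquare (2 : F)
    · exact Or.inl h
    refine Or.inr ?_
    have hm1 : ¬ IsSquare (-1 : F) := by
      intro hm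
      obtain ⟨-, e1⟩ := stepP 1 w (w - 1) _ hw1 hw10 rfl rfl
      obtain ⟨-, e2⟩ := stepN 1 w (-1 * (w - 1)) _ (sqm hm hw1)
        (mul_ne_zero (neg_ne_zero.2 one_ne_zero) hw10) (by ring) rfl
      have h4 : (3 : F) * w ^ 2 = 0 := by linear_combination e2 - e1 + (2 * w - 1) * hw
      exact h3 ((mul_eq_zero.1 h4).resolve_right hw20)
    rw [show (-2 : F) = -1 * 2 by ring, ← quadraticChar_one_iff_isSquare
      (mul_ne_zero (neg_ne_zero.2 one_ne_zero) h2), map_mul]
    rw [← quadraticChar_neg_one_iff_not_isSquare] at h hm1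
    rw [h, hm1]
    norm_num
  rcases htwo with h2s | h2s
  · -- `third 1 (third w e) = third w (third 1 e)` holds at `0` and fails at `-2`
    obtain ⟨σ, h0, h1, hσw, -, hσ⟩ := htrans (-2)
      (fun h => h3 (by linear_combination -h))
      (fun h => nz (-2) (-1) (by norm_num; exact h3) (by linear_combination h))
      (fun h => nz (-1) 1 (by norm_num; exact h3) (by linear_combination h + hw))
    obtain ⟨n1, a1⟩ := stepN w 0 w (-1) sqw hw0 (sub_zero w) (by linear_combination (-1 + w) * hw)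
    obtain ⟨n2, a2⟩ := stepN 1 (-1) 2 (1 + 2 * w) h2s h2 (by ring) (by linear_combination 2 * hw)
    obtain ⟨n3, a3⟩ := stepN 1 0 1 (1 + w) sq1 one_ne_zero (sub_zero 1) (by linear_combination hw)
    obtain ⟨n4, a4⟩ := stepP w (1 + w) 1 (1 + 2 * w) sq1 one_ne_zero (by ring)
      (by linear_combination hw)
    have b1 := hσ _ _ n1
    have b3 := hσ _ _ n3
    have b2 := hσ _ _ n2
    have b4 := hσ _ _ n4
    rw [hσw, h0, a1] at b1
    rw [h1, h0, a3] at b3
    rw [h1, a2, ← b1] at b2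
    rw [hσw, a4, ← b3] at b4
    obtain ⟨-, c1⟩ := stepN w (-2) (w ^ 2 * (w - 1)) (-1 + 2 * w) (sqm sqw2 hw1)
      (mul_ne_zero hw20 hw10) (by linear_combination (2 - w) * hw)
      (by linear_combination (1 + w - 2 * w ^ 2 + w ^ 3) * hw)
    obtain ⟨-, c2⟩ := stepP 1 (-1 + 2 * w) (2 * (w - 1)) (-3 - 2 * w) (sqm h2s hw1)
      (mul_ne_zero h2 hw10) (by ring) (by linear_combination (-4 + 2 * w) * hw)
    obtain ⟨-, c3⟩ := stepP 1 (-2) (w ^ 2 * ((w - 1) * (w - 1))) (-2 - 3 * w)
      (sqm sqw2 (sqm hw1 hw1)) (mul_ne_zero hw20 (mul_ne_zero hw10 hw10))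
      (by linear_combination (-3 + 3 * w - w ^ 2) * hw)
      (by linear_combination (-3 + 3 * w ^ 2 - 3 * w ^ 3 + w ^ 4) * hw)
    obtain ⟨-, c4⟩ := stepP w (-2 - 3 * w) (2 * (w * (w - 1))) (2 - w)
      (sqm h2s (sqm sqw hw1)) (mul_ne_zero h2 (mul_ne_zero hw0 hw10))
      (by linear_combination -2 * hw) (by linear_combination (2 - 4 * w + 2 * w ^ 2) * hw)
    rw [c1, c2] at b2
    rw [c3, c4, ← b2] at b4
    refine nz 5 1 ?_ (by linear_combination b4)
    norm_num
    rw [show (21 : F) = 3 * 7 by norm_num]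
    exact mul_ne_zero h3 h7
  · -- `third (third w² (third 1 e)) (third w² (third w e)) = e` holds at `0`, fails at `2 + 2w`
    obtain ⟨σ, h0, h1, hσw, hσw2, hσ⟩ := htrans (2 + 2 * w)
      (fun h => nz 1 2 (by norm_num; exact h3) (by linear_combination h))
      (fun h => nz 2 1 (by norm_num; exact h3) (by linear_combination h))
      (fun h => nz 3 3 (by norm_num; rw [show (9 : F) = 3 * 3 by norm_num]; exact mul_ne_zero h3 h3)
        (by linear_combination h + hw))
    have hm2 : (-2 : F) ≠ 0 := neg_ne_zero.2 h2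
    obtain ⟨n1, a1⟩ := stepN 1 0 1 (1 + w) sq1 one_ne_zero (sub_zero 1) (by linear_combination hw)
    obtain ⟨n2, a2⟩ := stepP (w ^ 2) (1 + w) (-2 * w ^ 2) (-1 + w) (sqm h2s sqw2)
      (mul_ne_zero hm2 hw20) (by linear_combination hw)
      (by linear_combination (-1 + 2 * w - 2 * w ^ 2) * hw)
    obtain ⟨n3, a3⟩ := stepN w 0 w (-1) sqw hw0 (sub_zero w) (by linear_combination (-1 + w) * hw)
    obtain ⟨n4, a4⟩ := stepP (w ^ 2) (-1) w (-2 - w) sqw hw0 (by linear_combination -hw)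
      (by linear_combination (-2 + w) * hw)
    obtain ⟨n5, a5⟩ := stepP (-1 + w) (-2 - w) (w * (w - 1)) 0 (sqm sqw hw1) (mul_ne_zero hw0 hw10)
      (by linear_combination -hw) (by linear_combination (1 - 2 * w + w ^ 2) * hw)
    have b1 := hσ _ _ n1
    have b2 := hσ _ _ n2
    have b3 := hσ _ _ n3
    have b4 := hσ _ _ n4
    have b5 := hσ _ _ n5
    rw [h1, h0, a1] at b1
    rw [hσw2, a2, ← b1] at b2
    rw [hσw, h0, a3] at b3
    rw [hσw2, a4, ← b3] at b4
    rw [a5, h0, ← b2, ← b4] at b5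
    obtain ⟨-, c1⟩ := stepN 1 (2 + 2 * w) (w * (w - 1)) (3 + w) (sqm sqw hw1)
      (mul_ne_zero hw0 hw10) (by linear_combination -hw)
      (by linear_combination (1 - 2 * w + w ^ 2) * hw)
    obtain ⟨-, c2⟩ := stepN (w ^ 2) (3 + w) (-2 * (w ^ 2 * (w - 1))) (1 - 3 * w)
      (sqm h2s (sqm sqw2 hw1)) (mul_ne_zero hm2 (mul_ne_zero hw20 hw10))
      (by linear_combination (-3 + 2 * w) * hw)
      (by linear_combination (-2 - 2 * w + 4 * w ^ 2 - 2 * w ^ 3) * hw)
    obtain ⟨-, c3⟩ := stepP w (2 + 2 * w) (w ^ 2 * (w - 1)) (1 + 3 * w) (sqm sqw2 hw1)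
      (mul_ne_zero hw20 hw10) (by linear_combination (2 - w) * hw)
      (by linear_combination (1 + w - 2 * w ^ 2 + w ^ 3) * hw)
    obtain ⟨-, c4⟩ := stepP (w ^ 2) (1 + 3 * w) (-2 * (w * (w - 1))) (w - 3)
      (sqm h2s (sqm sqw hw1)) (mul_ne_zero hm2 (mul_ne_zero hw0 hw10))
      (by linear_combination hw) (by linear_combination (-3 + 4 * w - 2 * w ^ 2) * hw)
    obtain ⟨-, c5⟩ := stepP (1 - 3 * w) (w - 3) (-2 * -2 * (w - 1)) (-7 - 7 * w)
      (sqm (sqm h2s h2s) hw1) (mul_ne_zero (mul_ne_zero hm2 hm2) hw10) (by ring)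
      (by linear_combination (-8 + 4 * w) * hw)
    rw [c1, c2, c3, c4, c5] at b5
    refine nz (-9) (-9) ?_ (by linear_combination b5)
    norm_num
    rw [show (81 : F) = 3 * 3 * (3 * 3) by norm_num]
    exact mul_ne_zero (mul_ne_zero h3 h3) (mul_ne_zero h3 h3)

end Cfsg.Agent.HalfNorm
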