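import Cfsg.Agent.HalfNorm.LineSpace
import Cfsg.Agent.HalfNorm.LineSize
import Cfsg.Agent.HalfNorm.Netto

/-!
# Prime degree with half normaliser: no invariant linear space for `p > 7`
-/

set_option autoImplicit false

namespace Cfsg.Agent.HalfNorm

open Cfsg

variable {p : ℕ} [hp : Fact p.Prime]

theorem no_lines {G Ω : Type*} [Group G] [Finite G] [MulAction G Ω] [FaithfulSMul G Ω] [Fintype Ω]
    [DecidableEq Ω]
    (hΩ : Nat.card Ω = p) [MulAction.IsPretransitive G Ω] (hins : ¬ Group.IsSolvable G) (P : Sylow p G)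
    (hN : 2 * Nat.card ↥(Subgroup.normalizer ((P : Subgroup G) : Set G)) = p * (p - 1))
    (hp7 : 7 < p) (L : Ω → Ω → Finset Ω) {k : ℕ} (hk : 3 ≤ k) (hkp : k < p)
    (hmem : ∀ x y, x ≠ y → x ∈ L x y ∧ y ∈ L x y) (hcard : ∀ x y, x ≠ y → (L x y).card = k)
    (hequiv : ∀ (g : G) x y, x ≠ y → L (g • x) (g • y) = (L x y).image (g • ·))
    (hclosed : ∀ x y z, x ≠ y → z ∈ L x y → z ≠ x → L x z = L x y)
    (hsymm : ∀ x y, x ≠ y → L y x = L x y) {α β : Ω} (hαβ : α ≠ β) : False := by
  classical
  obtain ⟨e, -, -, -, haff⟩ := exists_label hΩ P hN hαβ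
  let L' : ZMod p → ZMod p → Finset (ZMod p) := fun x y => (L (e x) (e y)).image e.symm
  have hne : ∀ {x y : ZMod p}, x ≠ y → e x ≠ e y := fun h => e.injective.ne h
  have hm' : ∀ {z x y : ZMod p}, z ∈ L' x y ↔ e z ∈ L (e x) (e y) := by
    intro z x y
    simp only [L', Finset.mem_image]
    exact ⟨fun ⟨a, ha, he⟩ => by rwa [← he, e.apply_symm_apply], fun h => ⟨_, h, e.symm_apply_apply z⟩⟩
  have hback : ∀ {x y x' y' : ZMod p}, L (e x) (e y) = L (e x') (e y') → L' x y = L' x' y' :=
    fun h => by simp only [L', h]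
  have haff' : ∀ (u : (ZMod p)ˣ) (t : ZMod p), IsSquare u → ∀ x y, x ≠ y →
      L' (u * x + t) (u * y + t) = (L' x y).image (fun i => (u : ZMod p) * i + t) := by
    intro u t hu x y hxy
    obtain ⟨g, hg⟩ := haff u t hu
    simp only [L', ← hg, hequiv g _ _ (hne hxy), Finset.image_image]
    refine Finset.image_congr fun z _ => ?_
    show e.symm (g • z) = (u : ZMod p) * e.symm z + t
    rw [Equiv.symm_apply_eq, ← hg, e.apply_symm_apply]
  obtain ⟨hk3, w, c, a, hw, hw1, ha, hne0, hL0⟩ := line_size (L := L') (k := k) (by omega) hk hkp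
    (fun x y h => ⟨hm'.2 (hmem _ _ (hne h)).1, hm'.2 (hmem _ _ (hne h)).2⟩)
    (fun x y h => by
      simp only [L', Finset.card_image_of_injective _ e.symm.injective, hcard _ _ (hne h)])
    (fun x y z h hz hzx => hback (hclosed _ _ _ (hne h) (hm'.1 hz) (hne hzx)))
    (fun x y h => hback (hsymm _ _ (hne h))) haff'
  subst hk3
  -- the third point
  let thd : ZMod p → ZMod p → ZMod p := fun x y => (∑ z ∈ L' x y, z) - x - y
  have hthd : ∀ {x y : ZMod p}, x ≠ y → ∀ {z}, L' x y = {x, y, z} → x ≠ z → y ≠ z → thd x y = z := by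
    intro x y hxy z h hxz hyz
    simp only [thd, h]
    rw [Finset.sum_insert (by simp [hxy, hxz]), Finset.sum_insert (by simp [hyz]), Finset.sum_singleton]
    ring
  have hthd' : ∀ {x y : ZMod p}, x ≠ y → ∃ z, x ≠ z ∧ y ≠ z ∧ L' x y = {x, y, z} := by
    intro x y hxy
    have h3 : (L' x y).card = 3 := by
      simp only [L', Finset.card_image_of_injective _ e.symm.injective, hcard _ _ (hne hxy)]
    obtain ⟨z, hz, hzn⟩ := Finset.exists_mem_notMem_of_card_lt_card
      (s := ({x, y} : Finset (ZMod p))) (t := L' x y) (lt_of_le_of_lt Finset.card_le_two (by omega))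
    rw [Finset.mem_insert, Finset.mem_singleton, not_or] at hzn
    refine ⟨z, Ne.symm hzn.1, Ne.symm hzn.2, (Finset.eq_of_subset_of_card_le ?_ ?_).symm⟩
    · simp [Finset.insert_subset_iff, hz, hm'.2 (hmem _ _ (hne hxy)).1, hm'.2 (hmem _ _ (hne hxy)).2]
    · rw [h3, Finset.card_eq_three.2 ⟨x, y, z, hxy, Ne.symm hzn.1, Ne.symm hzn.2, rfl⟩]
  have hsmall : ∀ n : ℕ, n ≤ 7 → n ≠ 0 → (n : ZMod p) ≠ 0 := by
    intro n hn hn0 h
    rw [ZMod.natCast_eq_zero_iff] at h
    have := Nat.le_of_dvd (Nat.pos_of_ne_zero hn0) h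
    omega
  have h2 : (2 : ZMod p) ≠ 0 := by exact_mod_cast hsmall 2 (by norm_num) (by norm_num)
  have h3 : (3 : ZMod p) ≠ 0 := by exact_mod_cast hsmall 3 (by norm_num) (by norm_num)
  have h7 : (7 : ZMod p) ≠ 0 := by exact_mod_cast hsmall 7 (by norm_num) (by norm_num)
  have hw10 : w - 1 ≠ 0 := fun h => h3 (by linear_combination hw - (w + 2) * h)
  have hw2 : w ^ 2 - 1 ≠ 0 := fun h => h3 (by linear_combination (2 - w) * hw + (w - 1) * h)
  have hw2w : w ^ 2 - w ≠ 0 := fun h => h3 (by linear_combination (3 - 2 * w) * hw + (2 * w + 1) * h)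
  let h : ZMod p → ZMod p := fun x => c + a * x
  have hh : Function.Injective h := fun x y he => mul_left_cancel₀ ha (add_left_cancel he)
  let third : ZMod p → ZMod p → ZMod p := fun x y => (thd (h x) (h y) - c) / a
  have hhthird : ∀ x y, h (third x y) = thd (h x) (h y) := fun x y => by
    simp only [h, third]
    rw [mul_div_cancel₀ _ ha]
    ring
  -- translations of the base line
  have hP : ∀ x y, x ≠ y → IsSquare (y - x) → third x y = x - (y - x) * w ^ 2 := by
    intro x y hxy hsq
    apply hh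
    rw [hhthird]
    set s := (y - x) / (w - 1) with hs
    have hs0 : s ≠ 0 := div_ne_zero (sub_ne_zero.2 hxy.symm) hw10
    have hy : y = x + s * (w - 1) := by rw [hs, div_mul_cancel₀ _ hw10]; ring
    obtain ⟨r, hr⟩ := hsq.div hw1
    have hr0 : r ≠ 0 := fun h0 => hs0 (by rw [hs, hr, h0, mul_zero])
    have hL := haff' (Units.mk0 s hs0) (h x - s * h 1) ⟨Units.mk0 r hr0, Units.ext (hs.trans hr)⟩
      (c + a) (c + a * w) hne0
    rw [hL0] at hL
    simp only [Units.val_mk0, Finset.image_insert, Finset.image_singleton] at hL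
    have e1 : s * (c + a) + (h x - s * h 1) = h x := by simp only [h]; ring
    have e2 : s * (c + a * w) + (h x - s * h 1) = h y := by simp only [h]; rw [hy]; ring
    have e3 : s * (c + a * w ^ 2) + (h x - s * h 1) = h (x - (y - x) * w ^ 2) := by
      simp only [h]
      rw [hy]
      linear_combination a * s * (w - 1) * hw
    rw [e1, e2, e3] at hL
    refine hthd (hh.ne hxy) hL (hh.ne fun e' => ?_) (hh.ne fun e' => ?_)
    · have hw0 : w ≠ 0 := fun h0 => one_ne_zero (α := ZMod p) (by linear_combination hw - (w + 1) * h0)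
      exact mul_ne_zero (sub_ne_zero.2 hxy.symm) (pow_ne_zero 2 hw0) (by linear_combination e')
    · have : (y - x) * (1 + w ^ 2) = 0 := by linear_combination e'
      rcases mul_eq_zero.1 this with h0 | h0
      · exact hxy (sub_eq_zero.1 h0).symm
      · exact one_ne_zero (α := ZMod p) (by linear_combination -w * hw + (w + 1) * h0)
  have hs : ∀ x y, x ≠ y → third y x = third x y := by
    intro x y hxy
    have e := hback (hsymm _ _ (hne (hh.ne hxy)))
    simp only [third, thd, e]
    ring
  refine netto_false w hw h2 h3 h7 hw1 third hs hP fun e₂ he1 he2 he3 => ?_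
  set A := e (h 1)
  set B := e (h w)
  set S := MulAction.stabilizer G A ⊓ MulAction.stabilizer G B
  have hAB : A ≠ B := e.injective.ne (hh.ne fun e' => hw10 (sub_eq_zero.2 e'.symm))
  have hline : L A B = {A, B, e (h (w ^ 2))} := by
    have h1 := congrArg (Finset.image e) hL0
    simp only [L', Finset.image_image, Finset.image_insert, Finset.image_singleton,
      Equiv.self_comp_symm, Finset.image_id] at h1
    simpa [A, B, h] using h1
  have hfixC : ∀ g : S, (g : G) • e (h (w ^ 2)) = e (h (w ^ 2)) := by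
    intro g
    have hgA : (g : G) • A = A := g.2.1
    have hgB : (g : G) • B = B := g.2.2
    have hmem' : (g : G) • e (h (w ^ 2)) ∈ L A B := by
      rw [← hgA, ← hgB, hequiv _ _ _ hAB, hline]
      exact Finset.mem_image_of_mem _ (by simp)
    rw [hline, Finset.mem_insert, Finset.mem_insert, Finset.mem_singleton] at hmem'
    rcases hmem' with h' | h' | h'
    · exact absurd (hh (e.injective (smul_left_cancel _ (h'.trans hgA.symm)))) (fun e' => hw2 (sub_eq_zero.2 e'))
    · exact absurd (hh (e.injective (smul_left_cancel _ (h'.trans hgB.symm)))) (fun e' => hw2w (sub_eq_zero.2 e'))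
    · exact h'
  obtain ⟨g, hg⟩ : e (h e₂) ∈ MulAction.orbit S (e (h 0)) := by
    by_contra hno
    refine no_three_orbits hΩ hins P hN hAB ![e (h 0), e (h e₂), e (h (w ^ 2))] ?_ ?_ ?_
    · intro i
      fin_cases i
      · exact e.injective.ne (hh.ne zero_ne_one)
      · exact e.injective.ne (hh.ne he1)
      · exact e.injective.ne (hh.ne fun e' => hw2 (sub_eq_zero.2 e'))
    · intro i
      fin_cases i
      · exact e.injective.ne (hh.ne fun e' => one_ne_zero (α := ZMod p) (by linear_combination hw + (w + 1) * e'))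
      · exact e.injective.ne (hh.ne he2)
      · exact e.injective.ne (hh.ne fun e' => hw2w (sub_eq_zero.2 e'))
    · have hz : ∀ x, x ≠ w ^ 2 → ¬ e (h x) ∈ MulAction.orbit S (e (h (w ^ 2))) := fun x hx => by
        rintro ⟨g, hg⟩
        exact hx (hh (e.injective (hg.symm.trans (hfixC g))))
      have hw20 : (0 : ZMod p) ≠ w ^ 2 := fun e' => one_ne_zero (α := ZMod p) (by
        have hw0 : w = 0 := pow_eq_zero_iff two_ne_zero |>.1 e'.symm
        linear_combination hw - (w + 1) * hw0)
      intro i j hij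
      have hji := MulAction.mem_orbit_symm.1 hij
      fin_cases i <;> fin_cases j <;> first
        | rfl
        | exact (hno hij).elim
        | exact (hno hji).elim
        | exact (hz e₂ he3 hij).elim
        | exact (hz e₂ he3 hji).elim
        | exact (hz 0 hw20 hij).elim
        | exact (hz 0 hw20 hji).elim
  let σ : Equiv.Perm (ZMod p) :=
    { toFun := fun x => (e.symm ((g : G) • e (h x)) - c) / a
      invFun := fun x => (e.symm ((g : G)⁻¹ • e (h x)) - c) / a
      left_inv := fun x => by simp only [h]; rw [mul_div_cancel₀ _ ha, add_sub_cancel, e.apply_symm_apply,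
        inv_smul_smul, e.symm_apply_apply, add_sub_cancel_left, mul_div_cancel_left₀ _ ha]
      right_inv := fun x => by simp only [h]; rw [mul_div_cancel₀ _ ha, add_sub_cancel, e.apply_symm_apply,
        smul_inv_smul, e.symm_apply_apply, add_sub_cancel_left, mul_div_cancel_left₀ _ ha] }
  have hσ : ∀ x, e (h (σ x)) = (g : G) • e (h x) := fun x => by
    show e (c + a * ((e.symm ((g : G) • e (h x)) - c) / a)) = _
    rw [mul_div_cancel₀ _ ha, add_sub_cancel, e.apply_symm_apply]
  refine ⟨σ, hh (e.injective ((hσ 0).trans hg)), hh (e.injective ((hσ 1).trans g.2.1)),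
    hh (e.injective ((hσ w).trans g.2.2)), hh (e.injective ((hσ _).trans (hfixC g))), fun x y hxy => ?_⟩
  obtain ⟨z, hxz, hyz, hz⟩ := hthd' (hh.ne hxy)
  apply hh
  rw [hhthird]
  have hzd : h (third x y) = z := by rw [hhthird, hthd (hh.ne hxy) hz hxz hyz]
  have hz' : e (h (σ (third x y))) = (g : G) • e z := by rw [hσ, hzd]
  refine hthd (hh.ne (σ.injective.ne hxy)) ?_ ?_ ?_
  · have h1 := hequiv (g : G) _ _ (hne (hh.ne hxy))
    rw [← hσ x, ← hσ y] at h1
    have h2 := congrArg (Finset.image e) hz
    simp only [L', Finset.image_image, Finset.image_insert, Finset.image_singleton,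
      Equiv.self_comp_symm, Finset.image_id] at h2
    show (L (e (h (σ x))) (e (h (σ y)))).image e.symm = _
    rw [h1, h2]
    simp only [Finset.image_insert, Finset.image_singleton, ← hσ, ← hz', e.symm_apply_apply]
  · exact fun e' => hxz (e.injective (smul_left_cancel _ ((hσ x).symm.trans ((congrArg e e').trans hz'))))
  · exact fun e' => hyz (e.injective (smul_left_cancel _ ((hσ y).symm.trans ((congrArg e e').trans hz'))))

end Cfsg.Agent.HalfNorm
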