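import Mathlib

/-!
# Two orbits of odd total size
-/

set_option autoImplicit false

namespace Cfsg.Agent.HalfNorm

/-- An element normalising `S` fixes each of two `S`-orbits covering a set of odd size. -/
theorem smul_mem_orbit_of_odd {G Ω : Type*} [Group G] [MulAction G Ω] [Finite Ω] (S : Subgroup G) (g : G)
    (hgS : ∀ s ∈ S, g * s * g⁻¹ ∈ S) (W : Set Ω) (hgW : ∀ z, g • z ∈ W ↔ z ∈ W)
    (hSW : ∀ s ∈ S, ∀ z ∈ W, (s : G) • z ∈ W) (hodd : Odd (Nat.card W)) {x y : Ω} (hx : x ∈ W) (hy : y ∈ W)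
    (hcover : ∀ z ∈ W, z ∈ MulAction.orbit S x ∨ z ∈ MulAction.orbit S y) :
    g • x ∈ MulAction.orbit S x := by
  classical
  by_contra hgx
  have hgxy : g • x ∈ MulAction.orbit S y := (hcover _ ((hgW x).2 hx)).resolve_left hgx
  have hsub : ∀ z : Ω, ∀ w ∈ MulAction.orbit S z, g • w ∈ MulAction.orbit S (g • z) := by
    rintro z _ ⟨s, rfl⟩
    refine ⟨⟨g * s * g⁻¹, hgS s s.2⟩, ?_⟩
    show (g * (s : G) * g⁻¹) • g • z = g • (s : G) • z
    rw [mul_smul, mul_smul, inv_smul_smul]
  have hdisj : Disjoint (MulAction.orbit S x) (MulAction.orbit S y) := Set.disjoint_left.2 fun z h1 h2 => hgx (by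
    rw [← MulAction.orbit_eq_iff.2 h1, MulAction.orbit_eq_iff.2 h2]; exact hgxy)
  have hWeq : W = MulAction.orbit S x ∪ MulAction.orbit S y := by
    ext z
    refine ⟨fun hz => hcover z hz, ?_⟩
    rintro (⟨s, rfl⟩ | ⟨s, rfl⟩)
    · exact hSW s s.2 x hx
    · exact hSW s s.2 y hy
  have hgy : g • y ∈ MulAction.orbit S x := by
    by_contra h
    have h' : g • y ∈ MulAction.orbit S y := (hcover _ ((hgW y).2 hy)).resolve_left h
    have hall : ∀ z ∈ W, g • z ∈ MulAction.orbit S y := fun z hz => by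
      rcases hcover z hz with hzx | hzy
      · have := hsub x z hzx
        rwa [MulAction.orbit_eq_iff.2 hgxy] at this
      · have := hsub y z hzy
        rwa [MulAction.orbit_eq_iff.2 h'] at this
    have h1 := hall (g⁻¹ • x) ((hgW _).1 (by rwa [smul_inv_smul]))
    rw [smul_inv_smul] at h1
    exact Set.disjoint_left.1 hdisj (MulAction.mem_orbit_self x) h1
  have h1 : ∀ {u v : Ω}, g • u ∈ MulAction.orbit S v → (MulAction.orbit S u).ncard ≤ (MulAction.orbit S v).ncard := by
    intro u v huv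
    refine Set.ncard_le_ncard_of_injOn (fun w => g • w) (fun w hw => ?_) (MulAction.injective g).injOn
    have := hsub u w hw
    rwa [MulAction.orbit_eq_iff.2 huv] at this
  have heq := le_antisymm (h1 hgxy) (h1 hgy)
  rw [hWeq, Nat.card_coe_set_eq, Set.ncard_union_eq hdisj, heq] at hodd
  exact (Nat.not_even_iff_odd.2 hodd) (Even.add_self _)

end Cfsg.Agent.HalfNorm
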