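import Cfsg.Agent.HalfNorm.PSLExtPair

/-!
# The dihedral stabiliser of a pair of points in `PSL(2, p)`, `p ≡ 3 (mod 4)`
-/

set_option autoImplicit false
set_option linter.unusedSectionVars false

namespace Cfsg.Agent.HalfNorm.PSLExt

open MulAction DihedralGroup

variable {p : ℕ} [hp : Fact p.Prime]
  {X Ω : Type*} [Group X] [Finite X] [MulAction X Ω] [Fintype Ω] [DecidableEq Ω] {L : Subgroup X}

/-- The setwise stabiliser of `{ω, α}`. -/
def pairStab (X : Type*) {Ω : Type*} [Group X] [MulAction X Ω] (ω α : Ω) : Subgroup X where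
  carrier := {g | (g • ω = ω ∧ g • α = α) ∨ (g • ω = α ∧ g • α = ω)}
  one_mem' := Or.inl ⟨one_smul _ _, one_smul _ _⟩
  mul_mem' := by
    rintro a b (⟨a1, a2⟩ | ⟨a1, a2⟩) (⟨b1, b2⟩ | ⟨b1, b2⟩)
    · exact Or.inl ⟨by rw [mul_smul, b1, a1], by rw [mul_smul, b2, a2]⟩
    · exact Or.inr ⟨by rw [mul_smul, b1, a2], by rw [mul_smul, b2, a1]⟩
    · exact Or.inr ⟨by rw [mul_smul, b1, a1], by rw [mul_smul, b2, a2]⟩
    · exact Or.inl ⟨by rw [mul_smul, b1, a2], by rw [mul_smul, b2, a1]⟩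
  inv_mem' := by
    rintro a (⟨a1, a2⟩ | ⟨a1, a2⟩)
    · exact Or.inl ⟨by rw [inv_smul_eq_iff, a1], by rw [inv_smul_eq_iff, a2]⟩
    · exact Or.inr ⟨by rw [inv_smul_eq_iff, a2], by rw [inv_smul_eq_iff, a1]⟩

theorem mem_pairStab {ω α : Ω} {g : X} :
    g ∈ pairStab X ω α ↔ (g • ω = ω ∧ g • α = α) ∨ (g • ω = α ∧ g • α = ω) := Iff.rfl

/-- The pair stabiliser contains a dihedral group of order `p - 1`, semiregular on the other points. -/
theorem exists_dihedral (h : Hyp p X Ω L) (h4 : p % 4 = 3) {ω α : Ω} (hne : ω ≠ α) :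
    ∃ ι : DihedralGroup ((p - 1) / 2) →* X, (∀ d, ι d ∈ pairStab X ω α) ∧
      ∀ z, z ≠ ω → z ≠ α → Function.Injective fun d => ι d • z := by
  classical
  have h7 := h.seven
  set m := (p - 1) / 2 with hm
  have hmo : Odd m := Nat.odd_iff.2 (by omega)
  have : NeZero m := ⟨by omega⟩
  set C := L ⊓ stabilizer X ω ⊓ stabilizer X α with hC
  have hCm : Nat.card C = m := card_pair h hne
  obtain ⟨hcyc, hfree⟩ := pair_facts h hne
  obtain ⟨γ', hγ⟩ := hcyc.exists_generator
  set γ : X := γ'.1 with hγdef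
  have hγm : orderOf γ = m := by
    rw [hγdef, Subgroup.orderOf_coe, orderOf_eq_card_of_forall_mem_zpowers hγ]
    exact hCm
  have hpowC : ∀ c ∈ C, c ^ m = 1 := fun c hc => by
    have h1 := congrArg Subtype.val (pow_card_eq_one' (x := (⟨c, hc⟩ : C)))
    rwa [hCm] at h1
  -- an involution interchanging the two points
  obtain ⟨g₀, hg₀L, hg₀ω, hg₀α⟩ := h.two hne hne.symm
  have hg₀sq : g₀ * g₀ ∈ C := ⟨⟨mul_mem hg₀L hg₀L, show (g₀ * g₀) • ω = ω by rw [mul_smul, hg₀ω, hg₀α]⟩,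
    show (g₀ * g₀) • α = α by rw [mul_smul, hg₀α, hg₀ω]⟩
  set t := g₀ ^ m with ht
  have htL : t ∈ L := pow_mem hg₀L m
  have htt : t * t = 1 := by
    rw [ht, ← (Commute.refl g₀).mul_pow, hpowC _ hg₀sq]
  obtain ⟨htω, htα⟩ : t • ω = α ∧ t • α = ω := by
    obtain ⟨k, hk⟩ := hmo
    have e : t = g₀ * (g₀ * g₀) ^ k := by
      rw [ht, hk, pow_succ', pow_mul, pow_two]
    have hk' : (g₀ * g₀) ^ k ∈ C := pow_mem hg₀sq k
    exact ⟨by rw [e, mul_smul, hk'.1.2, hg₀ω], by rw [e, mul_smul, hk'.2, hg₀α]⟩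
  have hconjC : ∀ c ∈ C, t * c * t ∈ C := fun c hc => ⟨⟨mul_mem (mul_mem htL hc.1.1) htL,
    show (t * c * t) • ω = ω by rw [mul_smul, mul_smul, htω, show c • α = α from hc.2, htα]⟩,
    show (t * c * t) • α = α by rw [mul_smul, mul_smul, htα, show c • ω = ω from hc.1.2, htω]⟩
  have ht1 : t ≠ 1 := fun e => hne (by rw [← htω, e, one_smul])
  have hinv : ∀ c ∈ C, t * c * t = c⁻¹ := by
    intro c hc
    have : IsCyclic C := hcyc
    have hcomm : ∀ a ∈ C, ∀ b ∈ C, a * b = b * a := fun a ha b hb =>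
      congrArg Subtype.val ((IsCyclic.isMulCommutative (α := C)).is_comm.comm (⟨a, ha⟩ : C) ⟨b, hb⟩)
    set x := c * (t * c * t) with hx
    have hxC : x ∈ C := mul_mem hc (hconjC c hc)
    have htx : x * t = t * x := by
      calc x * t = c * t * c := by rw [hx]; simp only [mul_assoc, htt, mul_one]
        _ = t * ((t * c * t) * c) := by simp only [← mul_assoc, htt, one_mul]
        _ = t * x := by rw [hx, hcomm _ (hconjC c hc) c hc]
    obtain ⟨e⟩ := h.iso
    have hx1 : x = 1 := by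
      have hxL : x ∈ L := hxC.1.1
      have h1 := eq_one_of_commute_invol h4 (x := e ⟨t, htL⟩) (c := e ⟨x, hxL⟩)
        (fun e1 => ht1 (by simpa using congrArg Subtype.val (e.injective (e1.trans (map_one e).symm))))
        (by rw [← map_mul, show (⟨t, htL⟩ : L) * ⟨t, htL⟩ = 1 from Subtype.ext htt, map_one])
        (by rw [← map_pow, show (⟨x, hxL⟩ : L) ^ ((p - 1) / 2) = 1 from Subtype.ext (by simpa using hpowC x hxC),
          map_one])
        (by rw [← map_mul, ← map_mul]; exact congrArg e (Subtype.ext htx))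
      simpa using congrArg Subtype.val (e.injective (h1.trans (map_one e).symm))
    exact eq_inv_of_mul_eq_one_right hx1
  -- powers indexed by residues
  let pw : ZMod m → X := fun i => γ ^ i.val
  have hpwC : ∀ i, pw i ∈ C := fun i => pow_mem γ'.2 _
  have hpw_add : ∀ i j, pw (i + j) = pw i * pw j := fun i j => by
    show γ ^ (i + j).val = γ ^ i.val * γ ^ j.val
    rw [← pow_add, ZMod.val_add]
    conv_rhs => rw [← pow_mod_orderOf, hγm]
  have hpw0 : pw 0 = 1 := by show γ ^ (0 : ZMod m).val = 1; rw [ZMod.val_zero, pow_zero]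
  have hpw_neg : ∀ i, pw (-i) = (pw i)⁻¹ := fun i =>
    eq_inv_of_mul_eq_one_left (by rw [← hpw_add, neg_add_cancel, hpw0])
  have hpw_inj : Function.Injective pw := fun i j hij => ZMod.val_injective m
    (pow_injOn_Iio_orderOf (show i.val ∈ Set.Iio (orderOf γ) by rw [hγm]; exact ZMod.val_lt i)
      (show j.val ∈ Set.Iio (orderOf γ) by rw [hγm]; exact ZMod.val_lt j) hij)
  have htp : ∀ i, pw i * t = t * pw (-i) := fun i => by
    rw [hpw_neg, ← hinv _ (hpwC i)]
    simp only [← mul_assoc, htt, one_mul]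
  let f : DihedralGroup m → X := fun d => match d with
    | r i => pw i
    | sr i => t * pw i
  let ι : DihedralGroup m →* X := MonoidHom.mk' f (by
    rintro (i | i) (j | j) <;> simp only [r_mul_r, r_mul_sr, sr_mul_r, sr_mul_sr]
    · exact hpw_add i j
    · show t * pw (j - i) = pw i * (t * pw j)
      rw [← mul_assoc, htp, mul_assoc, ← hpw_add, sub_eq_neg_add]
    · show t * pw (i + j) = t * pw i * pw j
      rw [mul_assoc, hpw_add]
    · show pw (j - i) = t * pw i * (t * pw j)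
      rw [mul_assoc, ← mul_assoc (pw i), htp, mul_assoc t (pw (-i)), ← mul_assoc, htt, one_mul, ← hpw_add,
        sub_eq_neg_add])
  have hmem : ∀ d, ι d ∈ L ∧ ι d ∈ pairStab X ω α := by
    rintro (i | i)
    · exact ⟨(hpwC i).1.1, Or.inl ⟨(hpwC i).1.2, (hpwC i).2⟩⟩
    · exact ⟨mul_mem htL (hpwC i).1.1, mul_mem (Or.inr ⟨htω, htα⟩)
        (Or.inl ⟨(hpwC i).1.2, (hpwC i).2⟩)⟩
  refine ⟨ι, fun d => (hmem d).2, fun z hzω hzα d d' hdd' => ?_⟩
  have hd : ι (d'⁻¹ * d) • z = z := by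
    rw [map_mul, map_inv, mul_smul, inv_smul_eq_iff]
    exact hdd'
  -- an element fixing `z` has odd order
  have key : d'⁻¹ * d = 1 := by
    generalize d'⁻¹ * d = e at hd
    rcases e with i | i
    · have h1 := hfree _ (hpwC i) z hzω hzα hd
      rw [one_def, hpw_inj (h1.trans hpw0.symm)]
    · exfalso
      set u := ι (sr i) with hu
      have huu : u * u = 1 := by rw [hu, ← map_mul, sr_mul_self, map_one]
      have hu1 : u ≠ 1 := fun e => hne (by
        have h1 : u • ω = α := by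
          show (t * pw i) • ω = α
          rw [mul_smul, (hpwC i).1.2, htω]
        rw [e, one_smul] at h1
        exact h1)
      have ho : orderOf u = 2 := orderOf_eq_prime (by rw [pow_two]; exact huu) hu1
      have h2 : 2 ∣ Nat.card (L ⊓ stabilizer X z : Subgroup X) :=
        ho ▸ Subgroup.orderOf_dvd_natCard _ ⟨(hmem (sr i)).1, hd⟩
      rw [card_point h z] at h2
      rcases (Nat.Prime.dvd_mul Nat.prime_two).1 h2 with h3 | h3
      · exact absurd ((Nat.prime_dvd_prime_iff_eq Nat.prime_two hp.out).1 h3) (by omega)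
      · exact absurd h3 (Nat.not_even_iff_odd.2 hmo ∘ even_iff_two_dvd.2)
  exact (inv_mul_eq_one.1 key).symm

end Cfsg.Agent.HalfNorm.PSLExt
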