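import Cfsg.Agent.HalfNorm.PSLExtDihedral
import Cfsg.Agent.HalfNorm.Main
import Cfsg.Agent.HalfNorm.Odd
import Cfsg.Agent.DihedralB.Action
import Cfsg.Agent.Fg24.PrimeTwoP.Basic
import Cfsg.Agent.PermGroups.Basic
import Cfsg.Agent.S0676
import Cfsg.Agent.S3612

/-!
# Proper overgroups of `PSL(2, p)` in the alternating group of degree `p + 1` are 4-transitive

For `p ≡ 1 (mod 4)` the point stabiliser has a normaliser of even order and is 3-transitive. For `p ≡ 3 (mod 4)` the
stabiliser of a pair of points is primitive with a regular dihedral subgroup, hence 2-transitive, and the two orbits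
of a three-point stabiliser, of odd total size, cannot be interchanged.
-/

set_option autoImplicit false
set_option linter.unusedSectionVars false

namespace Cfsg.Agent.HalfNorm.PSLExt

open MulAction

variable {p : ℕ} [hp : Fact p.Prime]
  {X Ω : Type*} [Group X] [Finite X] [MulAction X Ω] [Fintype Ω] [DecidableEq Ω] {L : Subgroup X}

theorem card_ofStabilizer (h : Hyp p X Ω L) (ω : Ω) : Nat.card (SubMulAction.ofStabilizer X ω) = p := by
  have e : (SubMulAction.ofStabilizer X ω) ≃ {x : Ω // x ≠ ω} :=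
    Equiv.subtypeEquivRight fun x => SubMulAction.mem_ofStabilizer_iff X ω
  rw [Nat.card_congr e, Nat.card_eq_fintype_card, Fintype.card_subtype_compl, Fintype.card_subtype_eq, h.card]
  rfl

/-- The point stabiliser is an insoluble transitive group of degree `p` with half normaliser. -/
theorem stab_facts (h : Hyp p X Ω L) (ω : Ω) :
    IsPretransitive (stabilizer X ω) (SubMulAction.ofStabilizer X ω) ∧
    ¬ Group.IsSolvable (stabilizer X ω) ∧
    ∃ P : Sylow p (stabilizer X ω),
      2 * Nat.card (Subgroup.normalizer ((P : Subgroup (stabilizer X ω)) : Set (stabilizer X ω))) = p * (p - 1) := by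
  classical
  have := h.faithful
  have h7 := h.seven
  obtain ⟨σ, hσL, hσ, hσω, hcyc, hnorm⟩ := exists_sigma h ω
  have hmem : ∀ y : SubMulAction.ofStabilizer X ω, (y : Ω) ≠ ω := fun y =>
    (SubMulAction.mem_ofStabilizer_iff X ω).1 y.2
  let σ' : stabilizer X ω := ⟨σ, hσω⟩
  have htr : IsPretransitive (stabilizer X ω) (SubMulAction.ofStabilizer X ω) := ⟨fun y z => by
    obtain ⟨n, hn⟩ := hcyc y z (hmem y) (hmem z)
    exact ⟨σ' ^ n, Subtype.ext hn⟩⟩
  have hfac : Nat.card X ∣ (p + 1).factorial := by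
    rw [← h.card, ← Fintype.card_perm, ← Nat.card_eq_fintype_card]
    exact Subgroup.card_dvd_of_injective (MulAction.toPermHom X Ω) MulAction.toPerm_injective
  have hsq : ¬ p * p ∣ Nat.card (stabilizer X ω) := by
    intro hd
    have h1 := (hd.trans (Subgroup.card_subgroup_dvd_card _)).trans hfac
    rw [Nat.factorial_succ, ← Nat.mul_factorial_pred hp.out.ne_zero, ← mul_assoc, mul_comm (p + 1), mul_assoc,
      Nat.mul_dvd_mul_iff_left hp.out.pos] at h1
    rcases (Nat.Prime.dvd_mul hp.out).1 h1 with h2 | h2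
    · exact absurd ((Nat.dvd_add_right dvd_rfl).1 h2) (by rw [Nat.dvd_one]; omega)
    · rw [Nat.Prime.dvd_factorial hp.out] at h2
      omega
  have hcard : Nat.card (Subgroup.zpowers σ') = p := by
    rw [Nat.card_zpowers, ← Subgroup.orderOf_coe, hσ]
  have hfp : Nat.card (Subgroup.zpowers σ') = p ^ (Nat.card (stabilizer X ω)).factorization p := by
    have h1 : p ∣ Nat.card (stabilizer X ω) := hcard ▸ Subgroup.card_subgroup_dvd_card (Subgroup.zpowers σ')
    have h2 : (Nat.card (stabilizer X ω)).factorization p = 1 := by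
      have hge : 1 ≤ (Nat.card (stabilizer X ω)).factorization p :=
        (hp.out.dvd_iff_one_le_factorization Nat.card_pos.ne').1 h1
      by_contra hne
      apply hsq
      rw [← pow_two]
      exact (Nat.Prime.pow_dvd_iff_le_factorization hp.out Nat.card_pos.ne').2 (by omega)
    rw [hcard, h2, pow_one]
  let P : Sylow p (stabilizer X ω) := Sylow.ofCard (Subgroup.zpowers σ') hfp
  have hP : (P : Subgroup (stabilizer X ω)) = Subgroup.zpowers σ' := Sylow.coe_ofCard _ _
  set N := Subgroup.normalizer ((P : Subgroup (stabilizer X ω)) : Set (stabilizer X ω)) with hN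
  -- the normaliser
  obtain ⟨α, hα⟩ : ∃ α : Ω, α ≠ ω := Fintype.exists_ne_of_one_lt_card (by rw [h.card]; omega) ω
  let α' : SubMulAction.ofStabilizer X ω := ⟨α, (SubMulAction.mem_ofStabilizer_iff X ω).2 hα⟩
  have hNiff : ∀ g : stabilizer X ω,
      g ∈ N ↔ (g : X) ∈ Subgroup.normalizer ((Subgroup.zpowers σ : Subgroup X) : Set X) := by
    intro g
    have hz : ∀ x : stabilizer X ω, x ∈ (P : Subgroup (stabilizer X ω)) ↔ (x : X) ∈ Subgroup.zpowers σ := by
      intro x
      rw [hP, Subgroup.mem_zpowers_iff, Subgroup.mem_zpowers_iff]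
      exact ⟨fun ⟨k, hk⟩ => ⟨k, by rw [← hk]; simp [σ']⟩, fun ⟨k, hk⟩ => ⟨k, Subtype.ext (by simpa [σ'] using hk)⟩⟩
    rw [hN, Subgroup.mem_normalizer_iff, Subgroup.mem_normalizer_iff]
    refine ⟨fun hg x => ?_, fun hg x => ?_⟩
    · have hx : ∀ y ∈ Subgroup.zpowers σ, y • ω = ω := fun y hy =>
        (Subgroup.zpowers_le.2 (show σ ∈ stabilizer X ω from hσω)) hy
      constructor
      · intro hxm
        have := ((hg ⟨x, hx x hxm⟩).1 ((hz _).2 hxm))
        exact (hz _).1 this
      · intro hxm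
        have hxω : x • ω = ω := by
          have h1 : ((g : X) * x * (g : X)⁻¹) • ω = ω := hx _ hxm
          rwa [mul_smul, mul_smul, show (g : X)⁻¹ • ω = ω by rw [inv_smul_eq_iff]; exact g.2.symm,
            smul_eq_iff_eq_inv_smul, show (g : X)⁻¹ • ω = ω by rw [inv_smul_eq_iff]; exact g.2.symm] at h1
        exact (hz _).1 ((hg ⟨x, hxω⟩).2 ((hz _).2 hxm))
    · rw [hz, hz]
      exact hg x
  have hσN : σ' ∈ N := hN ▸ Subgroup.le_normalizer (hP ▸ Subgroup.mem_zpowers σ')
  have horb : orbit N α' = Set.univ := Set.eq_univ_of_forall fun y => by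
    obtain ⟨n, hn⟩ := hcyc α y hα (hmem y)
    exact ⟨⟨σ' ^ n, pow_mem hσN n⟩, Subtype.ext hn⟩
  have hNcard : Nat.card N = p * ((p - 1) / 2) := by
    have h1 := Subgroup.card_mul_index (stabilizer N α')
    rw [index_stabilizer, horb, Set.ncard_univ, card_ofStabilizer h ω] at h1
    let e : stabilizer N α' ≃ Nx σ ω α :=
      { toFun := fun g => ⟨((g : N) : stabilizer X ω), ((g : N) : stabilizer X ω).2,
          congrArg Subtype.val (show (g : N) • α' = α' from g.2), (hNiff _).1 (g : N).2⟩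
        invFun := fun g => ⟨⟨⟨g.1, g.2.1⟩, (hNiff _).2 g.2.2.2⟩, Subtype.ext g.2.2.1⟩
        left_inv := fun g => rfl
        right_inv := fun g => rfl }
    rw [Nat.card_congr e, Nx_eq h hσ hσω hcyc hα hnorm, card_pair h hα.symm, mul_comm] at h1
    exact h1.symm
  have hodd : p % 2 = 1 := (hp.out.eq_two_or_odd).resolve_left (by omega)
  have hN2 : 2 * Nat.card N = p * (p - 1) := by
    rw [hNcard, show p * (p - 1) = p * ((p - 1) / 2 * 2) by rw [show (p - 1) / 2 * 2 = p - 1 by omega]]
    ring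
  refine ⟨htr, fun hsol => ?_, P, hN2⟩
  -- a soluble stabiliser would be the one in `L`
  have : FaithfulSMul (stabilizer X ω) (SubMulAction.ofStabilizer X ω) :=
    Cfsg.Agent.PermGroups.faithful_ofStabilizer ω
  let φ := toPermHom (stabilizer X ω) (SubMulAction.ofStabilizer X ω)
  let ι : stabilizer X ω ≃* φ.range := MonoidHom.ofInjective MulAction.toPerm_injective
  have : IsPretransitive φ.range (SubMulAction.ofStabilizer X ω) := ⟨fun a b => by
    obtain ⟨g, hg⟩ := htr.exists_smul_eq a b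
    exact ⟨ι g, hg⟩⟩
  have : Fintype (SubMulAction.ofStabilizer X ω) := Fintype.ofFinite _
  have hPc : Nat.card (Subgroup.zpowers (ι σ')) = p := by
    rw [Nat.card_zpowers, MulEquiv.orderOf_eq, ← Nat.card_zpowers, hcard]
  have hfp' : Nat.card (Subgroup.zpowers (ι σ')) = p ^ (Nat.card φ.range).factorization p := by
    rw [hPc, ← Nat.card_congr ι.toEquiv, ← hfp, hcard]
  have hn := Cfsg.Agent.Fg24.PrimeTwoP.normal_of_solvable (p := p)
    (by rw [← Nat.card_eq_fintype_card]; exact card_ofStabilizer h ω) (G := φ.range)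
    (Group.isSolvable_of_surjective (f := ι.toMonoidHom) ι.surjective)
    (Sylow.ofCard (Subgroup.zpowers (ι σ')) hfp') (by rw [Sylow.coe_ofCard]; exact hPc)
  rw [Sylow.coe_ofCard] at hn
  have htop : N = ⊤ := by
    rw [eq_top_iff]
    intro g _
    rw [hN, Subgroup.mem_normalizer_iff]
    intro x
    have hx : ∀ y : stabilizer X ω, y ∈ (P : Subgroup (stabilizer X ω)) ↔ ι y ∈ Subgroup.zpowers (ι σ') := by
      intro y
      rw [hP, Subgroup.mem_zpowers_iff, Subgroup.mem_zpowers_iff]
      exact ⟨fun ⟨k, hk⟩ => ⟨k, by rw [← hk, map_zpow]⟩, fun ⟨k, hk⟩ => ⟨k, ι.injective (by rw [map_zpow, hk])⟩⟩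
    rw [hx, hx, map_mul, map_mul, map_inv]
    constructor
    · exact fun hm => hn.conj_mem _ hm _
    · intro hm
      have := hn.conj_mem _ hm (ι g)⁻¹
      simpa [mul_assoc] using this
  have hH : Nat.card (stabilizer X ω) = p * ((p - 1) / 2) := by
    rw [← hNcard, htop, Subgroup.card_top]
  apply h.proper
  refine Subgroup.eq_top_of_le_card L ?_
  have hX : IsPretransitive X Ω := ⟨fun a b => by
    rcases eq_or_ne a b with rfl | hab
    · exact ⟨1, one_smul _ _⟩
    · obtain ⟨g, -, hg, -⟩ := h.two hab hab.symm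
      exact ⟨g, hg⟩⟩
  have h1 := Subgroup.card_mul_index (stabilizer X ω)
  rw [index_stabilizer_of_transitive, hH, Nat.card_eq_fintype_card (α := Ω), h.card] at h1
  rw [card_L h, ← h1]

/-- The point stabiliser is doubly transitive. -/
theorem stab_two (h : Hyp p X Ω L) (ω : Ω) {a b c d : SubMulAction.ofStabilizer X ω} (hab : a ≠ b) (hcd : c ≠ d) :
    ∃ g : stabilizer X ω, g • a = c ∧ g • b = d := by
  classical
  have := h.faithful
  obtain ⟨htr, hins, -⟩ := stab_facts h ω
  have : FaithfulSMul (stabilizer X ω) (SubMulAction.ofStabilizer X ω) :=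
    Cfsg.Agent.PermGroups.faithful_ofStabilizer ω
  have : Fintype (SubMulAction.ofStabilizer X ω) := Fintype.ofFinite _
  let φ := toPermHom (stabilizer X ω) (SubMulAction.ofStabilizer X ω)
  let ι : stabilizer X ω ≃* φ.range := MonoidHom.ofInjective MulAction.toPerm_injective
  have : IsPretransitive φ.range (SubMulAction.ofStabilizer X ω) := ⟨fun a b => by
    obtain ⟨g, hg⟩ := htr.exists_smul_eq a b
    exact ⟨ι g, hg⟩⟩
  have h2 : IsMultiplyPretransitive φ.range (SubMulAction.ofStabilizer X ω) 2 :=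
    (Cfsg.Agent.S0675.result (by rw [← Nat.card_eq_fintype_card, card_ofStabilizer h ω]; exact hp.out)
      φ.range).resolve_left fun hs => hins (Group.isSolvable_of_isSolvable_injective (f := ι.toMonoidHom) ι.injective)
  obtain ⟨g, hg⟩ := (is_two_pretransitive_iff.1 h2) hab hcd
  obtain ⟨g, rfl⟩ := ι.surjective g
  exact ⟨g, hg⟩

/-- For `p ≡ 3 (mod 4)`: three-point stabilisers are transitive on the remaining points. -/
theorem triple_odd (h : Hyp p X Ω L) (h4 : p % 4 = 3) {ω α x z w : Ω} (hωα : ω ≠ α) (hxω : x ≠ ω) (hxα : x ≠ α)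
    (hzω : z ≠ ω) (hzα : z ≠ α) (hzx : z ≠ x) (hwω : w ≠ ω) (hwα : w ≠ α) (hwx : w ≠ x) :
    ∃ g : X, g • ω = ω ∧ g • α = α ∧ g • x = x ∧ g • z = w := by
  classical
  have := h.faithful
  have h7 := h.seven
  obtain ⟨htr, hins, P, hN⟩ := stab_facts h ω
  have : FaithfulSMul (stabilizer X ω) (SubMulAction.ofStabilizer X ω) :=
    Cfsg.Agent.PermGroups.faithful_ofStabilizer ω
  let mk : ∀ y : Ω, y ≠ ω → SubMulAction.ofStabilizer X ω := fun y hy =>
    ⟨y, (SubMulAction.mem_ofStabilizer_iff X ω).2 hy⟩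
  let α' := mk α hωα.symm
  have hprim1 := Cfsg.Agent.S3612.result p hp.out (card_ofStabilizer h ω) htr hins P hN h7 α'
  -- the pair stabiliser on the other points
  let A := pairStab X ω α
  let W : SubMulAction A Ω :=
    { carrier := {y | y ≠ ω ∧ y ≠ α}
      smul_mem' := fun g y hy => by
        rcases g.2 with ⟨g1, g2⟩ | ⟨g1, g2⟩
        · exact ⟨fun e => hy.1 (smul_left_cancel (g : X) (e.trans g1.symm)),
            fun e => hy.2 (smul_left_cancel (g : X) (e.trans g2.symm))⟩
        · exact ⟨fun e => hy.2 (smul_left_cancel (g : X) (e.trans g2.symm)),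
            fun e => hy.1 (smul_left_cancel (g : X) (e.trans g1.symm))⟩ }
  let ψ : stabilizer (stabilizer X ω) α' →* A :=
    { toFun := fun g => ⟨((g : stabilizer X ω) : X), Or.inl ⟨(g : stabilizer X ω).2,
        congrArg Subtype.val (show (g : stabilizer X ω) • α' = α' from g.2)⟩⟩
      map_one' := rfl
      map_mul' := fun _ _ => rfl }
  let f : SubMulAction.ofStabilizer (stabilizer X ω) α' →ₑ[ψ] W :=
    { toFun := fun y => ⟨((y : SubMulAction.ofStabilizer X ω) : Ω),
        (SubMulAction.mem_ofStabilizer_iff X ω).1 (y : SubMulAction.ofStabilizer X ω).2,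
        fun e => (SubMulAction.mem_ofStabilizer_iff (stabilizer X ω) α').1 y.2 (Subtype.ext e)⟩
      map_smul' := fun g y => rfl }
  have hf : Function.Surjective f := fun y =>
    ⟨⟨mk y.1 y.2.1, (SubMulAction.mem_ofStabilizer_iff (stabilizer X ω) α').2
      fun e => y.2.2 (congrArg Subtype.val e)⟩, rfl⟩
  have hprim : IsPreprimitive A W := IsPreprimitive.of_surjective hf
  obtain ⟨ι₀, hι₀, hinj⟩ := exists_dihedral h h4 hωα
  have : NeZero ((p - 1) / 2) := ⟨by omega⟩
  let ι : DihedralGroup ((p - 1) / 2) →* A := ι₀.codRestrict A hι₀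
  let x' : W := ⟨x, hxω, hxα⟩
  have hW : Nat.card W = p - 1 := by
    have e : W ≃ {y : Ω // y ∈ Finset.univ \ ({ω, α} : Finset Ω)} := Equiv.subtypeEquivRight fun y => by
      show (y ≠ ω ∧ y ≠ α) ↔ _
      simp
    rw [Nat.card_congr e, Nat.card_eq_fintype_card, Fintype.card_coe,
      Finset.card_sdiff_of_subset (Finset.subset_univ _), Finset.card_univ, h.card, Finset.card_pair hωα]
    omega
  have hbij : Function.Bijective fun d => ι d • x' := by
    refine (Nat.bijective_iff_injective_and_card _).2 ⟨fun d d' e => ?_, ?_⟩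
    · exact hinj x hxω hxα (congrArg Subtype.val e)
    · rw [DihedralGroup.nat_card, hW]
      omega
  have h2A := Cfsg.Agent.DihedralB.two_pretransitive_of_regular (by omega) hprim ι x' hbij
  let z' : W := ⟨z, hzω, hzα⟩
  let w' : W := ⟨w, hwω, hwα⟩
  obtain ⟨a, hax, haz⟩ := (is_two_pretransitive_iff.1 h2A) (show x' ≠ z' from fun e => hzx (congrArg Subtype.val e).symm)
    (show x' ≠ w' from fun e => hwx (congrArg Subtype.val e).symm)
  have hax' : (a : X) • x = x := congrArg Subtype.val hax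
  have haz' : (a : X) • z = w := congrArg Subtype.val haz
  set S : Subgroup X := stabilizer X ω ⊓ stabilizer X α ⊓ stabilizer X x with hS
  by_contra hno
  push Not at hno
  have hnot : ¬ w ∈ orbit S z := fun ⟨s, hs⟩ => hno s s.2.1.1 s.2.1.2 s.2.2 hs
  have hcover : ∀ y ∈ ({y : Ω | y ≠ ω ∧ y ≠ α ∧ y ≠ x} : Set Ω), y ∈ orbit S z ∨ y ∈ orbit S w := by
    intro y hy
    by_contra hc
    push Not at hc
    refine no_three_orbits (card_ofStabilizer h ω) hins P hN (α := α') (β := mk x hxω)
      (fun e => hxα (congrArg Subtype.val e).symm) ![mk z hzω, mk w hwω, mk y hy.1] ?_ ?_ ?_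
    · intro i e
      fin_cases i
      exacts [hzα (congrArg Subtype.val e), hwα (congrArg Subtype.val e), hy.2.1 (congrArg Subtype.val e)]
    · intro i e
      fin_cases i
      exacts [hzx (congrArg Subtype.val e), hwx (congrArg Subtype.val e), hy.2.2 (congrArg Subtype.val e)]
    · intro i j hij
      obtain ⟨s, hs⟩ := hij
      have hsS : ((s : stabilizer X ω) : X) ∈ S :=
        ⟨⟨(s : stabilizer X ω).2, congrArg Subtype.val (show (s : stabilizer X ω) • α' = α' from s.2.1)⟩,
          congrArg Subtype.val (show (s : stabilizer X ω) • mk x hxω = mk x hxω from s.2.2)⟩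
      have hs' := congrArg Subtype.val hs
      fin_cases i <;> fin_cases j <;> first
        | rfl
        | exact (hnot ⟨⟨_, hsS⟩, hs'⟩).elim
        | exact (hnot (mem_orbit_symm.1 ⟨⟨_, hsS⟩, hs'⟩)).elim
        | exact (hc.1 ⟨⟨_, hsS⟩, hs'⟩).elim
        | exact (hc.1 (mem_orbit_symm.1 ⟨⟨_, hsS⟩, hs'⟩)).elim
        | exact (hc.2 ⟨⟨_, hsS⟩, hs'⟩).elim
        | exact (hc.2 (mem_orbit_symm.1 ⟨⟨_, hsS⟩, hs'⟩)).elim
  refine hnot ?_
  rw [← haz']
  refine smul_mem_orbit_of_odd S (a : X) (fun s hs => ?_) {y : Ω | y ≠ ω ∧ y ≠ α ∧ y ≠ x} (fun y => ?_)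
    (fun s hs y hy => ?_) ?_ ⟨hzω, hzα, hzx⟩ ⟨hwω, hwα, hwx⟩ hcover
  · have hix : (a : X)⁻¹ • x = x := by rw [inv_smul_eq_iff, hax']
    rcases a.2 with ⟨a1, a2⟩ | ⟨a1, a2⟩
    · have hi1 : (a : X)⁻¹ • ω = ω := by rw [inv_smul_eq_iff, a1]
      have hi2 : (a : X)⁻¹ • α = α := by rw [inv_smul_eq_iff, a2]
      refine ⟨⟨?_, ?_⟩, ?_⟩ <;> show ((a : X) * s * (a : X)⁻¹) • _ = _ <;> rw [mul_smul, mul_smul]
      · rw [hi1, hs.1.1, a1]
      · rw [hi2, hs.1.2, a2]
      · rw [hix, hs.2, hax']
    · have hi1 : (a : X)⁻¹ • ω = α := by rw [inv_smul_eq_iff, a2]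
      have hi2 : (a : X)⁻¹ • α = ω := by rw [inv_smul_eq_iff, a1]
      refine ⟨⟨?_, ?_⟩, ?_⟩ <;> show ((a : X) * s * (a : X)⁻¹) • _ = _ <;> rw [mul_smul, mul_smul]
      · rw [hi1, hs.1.2, a2]
      · rw [hi2, hs.1.1, a1]
      · rw [hix, hs.2, hax']
  · show ((a : X) • y ≠ ω ∧ (a : X) • y ≠ α ∧ (a : X) • y ≠ x) ↔ (y ≠ ω ∧ y ≠ α ∧ y ≠ x)
    have h3 : ((a : X) • y = x) ↔ y = x :=
      ⟨fun e => smul_left_cancel (a : X) (e.trans hax'.symm), fun e => by rw [e, hax']⟩
    rcases a.2 with ⟨a1, a2⟩ | ⟨a1, a2⟩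
    · have h1 : ((a : X) • y = ω) ↔ y = ω :=
        ⟨fun e => smul_left_cancel (a : X) (e.trans a1.symm), fun e => by rw [e, a1]⟩
      have h2 : ((a : X) • y = α) ↔ y = α :=
        ⟨fun e => smul_left_cancel (a : X) (e.trans a2.symm), fun e => by rw [e, a2]⟩
      simp only [Ne, h1, h2, h3]
    · have h1 : ((a : X) • y = ω) ↔ y = α :=
        ⟨fun e => smul_left_cancel (a : X) (e.trans a2.symm), fun e => by rw [e, a2]⟩
      have h2 : ((a : X) • y = α) ↔ y = ω :=
        ⟨fun e => smul_left_cancel (a : X) (e.trans a1.symm), fun e => by rw [e, a1]⟩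
      simp only [Ne, h1, h2, h3]
      tauto
  · exact ⟨fun e => hy.1 (smul_left_cancel s (e.trans hs.1.1.symm)),
      fun e => hy.2.1 (smul_left_cancel s (e.trans hs.1.2.symm)),
      fun e => hy.2.2 (smul_left_cancel s (e.trans hs.2.symm))⟩
  · have hc : ({y : Ω | y ≠ ω ∧ y ≠ α ∧ y ≠ x} : Set Ω) = ({ω, α, x} : Set Ω)ᶜ := by
      ext y
      simp [not_or]
    rw [hc, Nat.card_coe_set_eq, Set.ncard_compl, Nat.card_eq_fintype_card, h.card,
      Set.ncard_eq_three.2 ⟨ω, α, x, hωα, hxω.symm, hxα.symm, rfl⟩, Nat.odd_iff]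
    omega

/-- The point stabiliser is triply transitive. -/
theorem stab_three (h : Hyp p X Ω L) (ω : Ω) :
    IsMultiplyPretransitive (stabilizer X ω) (SubMulAction.ofStabilizer X ω) 3 := by
  classical
  have := h.faithful
  have h7 := h.seven
  have hodd : p % 2 = 1 := (hp.out.eq_two_or_odd).resolve_left (by omega)
  obtain ⟨htr, hins, P, hN⟩ := stab_facts h ω
  have hmem : ∀ y : SubMulAction.ofStabilizer X ω, (y : Ω) ≠ ω := fun y =>
    (SubMulAction.mem_ofStabilizer_iff X ω).1 y.2
  rcases (show p % 4 = 1 ∨ p % 4 = 3 by omega) with h4 | h4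
  · have : FaithfulSMul (stabilizer X ω) (SubMulAction.ofStabilizer X ω) :=
      Cfsg.Agent.PermGroups.faithful_ofStabilizer ω
    have : Fintype (SubMulAction.ofStabilizer X ω) := Fintype.ofFinite _
    let φ := toPermHom (stabilizer X ω) (SubMulAction.ofStabilizer X ω)
    let ι : stabilizer X ω ≃* φ.range := MonoidHom.ofInjective MulAction.toPerm_injective
    have : IsPretransitive φ.range (SubMulAction.ofStabilizer X ω) := ⟨fun a b => by
      obtain ⟨g, hg⟩ := htr.exists_smul_eq a b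
      exact ⟨ι g, hg⟩⟩
    let P' : Sylow p φ.range := P.mapSurjective (f := ι.toMonoidHom) ι.surjective
    have h3 : IsMultiplyPretransitive φ.range (SubMulAction.ofStabilizer X ω) 3 := by
      refine Cfsg.Agent.S0676.result (p := p) (by rw [← Nat.card_eq_fintype_card, card_ofStabilizer h ω]) φ.range
        (fun hs => hins (Group.isSolvable_of_isSolvable_injective (f := ι.toMonoidHom) ι.injective)) P' ?_
      rw [show (P' : Subgroup φ.range) = (P : Subgroup (stabilizer X ω)).map ι.toMonoidHom from rfl,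
        ← Subgroup.map_equiv_normalizer_eq, Subgroup.card_map_of_injective (f := ι.toMonoidHom) ι.injective]
      have : Nat.card (Subgroup.normalizer ((P : Subgroup (stabilizer X ω)) : Set (stabilizer X ω))) =
          p * ((p - 1) / 2) := by
        refine Nat.eq_of_mul_eq_mul_left two_pos (hN.trans ?_)
        rw [show p * (p - 1) = p * ((p - 1) / 2 * 2) by rw [show (p - 1) / 2 * 2 = p - 1 by omega]]
        ring
      rw [this]
      exact Even.mul_left (Nat.even_iff.2 (by omega)) _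
    refine ⟨fun a b => ?_⟩
    obtain ⟨g, hg⟩ := h3.exists_smul_eq a b
    obtain ⟨g, rfl⟩ := ι.surjective g
    exact ⟨g, hg⟩
  · refine ⟨fun a b => ?_⟩
    obtain ⟨g, hg0, hg1⟩ := stab_two h ω (a.injective.ne (show (0 : Fin 3) ≠ 1 by decide))
      (b.injective.ne (show (0 : Fin 3) ≠ 1 by decide))
    have hne : ∀ {y y' : SubMulAction.ofStabilizer X ω}, y ≠ y' → (y : Ω) ≠ (y' : Ω) :=
      fun hy e => hy (Subtype.ext e)
    obtain ⟨k, hkω, hk0, hk1, hk2⟩ := triple_odd h h4 (ω := ω) (α := (b 0 : Ω)) (x := (b 1 : Ω))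
      (z := ((g • a 2 : SubMulAction.ofStabilizer X ω) : Ω)) (w := (b 2 : Ω))
      (hmem _).symm (hmem _) (hne (b.injective.ne (by decide))) (hmem _)
      (hne (hg0 ▸ fun e => absurd (a.injective (smul_left_cancel g e)) (by decide)))
      (hne (hg1 ▸ fun e => absurd (a.injective (smul_left_cancel g e)) (by decide)))
      (hmem _) (hne (b.injective.ne (by decide))) (hne (b.injective.ne (by decide)))
    refine ⟨⟨k, hkω⟩ * g, ?_⟩
    ext i
    rw [Function.Embedding.smul_apply, mul_smul]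
    fin_cases i
    · show k • ((g • a 0 : SubMulAction.ofStabilizer X ω) : Ω) = _
      rw [hg0]; exact hk0
    · show k • ((g • a 1 : SubMulAction.ofStabilizer X ω) : Ω) = _
      rw [hg1]; exact hk1
    · exact hk2

theorem four (h : Hyp p X Ω L) : IsMultiplyPretransitive X Ω 4 := by
  have h7 := h.seven
  obtain ⟨ω⟩ : Nonempty Ω := Fintype.card_pos_iff.1 (by rw [h.card]; omega)
  have : IsPretransitive X Ω := ⟨fun a b => by
    rcases eq_or_ne a b with rfl | hab
    · exact ⟨1, one_smul _ _⟩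
    · obtain ⟨g, -, hg, -⟩ := h.two hab hab.symm
      exact ⟨g, hg⟩⟩
  exact (SubMulAction.ofStabilizer.isMultiplyPretransitive (G := X) (a := ω) (n := 3)).2 (stab_three h ω)

end Cfsg.Agent.HalfNorm.PSLExt
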