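import Cfsg.Agent.HalfNorm.PSLInvol
import Mathlib.GroupTheory.SpecificGroups.Dihedral

/-!
# Two-point stabilisers of `PSL(2, p)` inside a group of even permutations of `p + 1` points
-/

set_option autoImplicit false
set_option linter.unusedSectionVars false

namespace Cfsg.Agent.HalfNorm.PSLExt

open MulAction

variable {p : ℕ} [hp : Fact p.Prime]
  {X Ω : Type*} [Group X] [Finite X] [MulAction X Ω] [Fintype Ω] [DecidableEq Ω]

/-- The hypotheses of the problem. -/
structure Hyp (p : ℕ) (X Ω : Type*) [Group X] [MulAction X Ω] [Fintype Ω] [DecidableEq Ω] (L : Subgroup X) :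
    Prop where
  faithful : FaithfulSMul X Ω
  seven : 7 < p
  card : Fintype.card Ω = p + 1
  sign : ∀ x : X, Equiv.Perm.sign (MulAction.toPerm x : Equiv.Perm Ω) = 1
  iso : Nonempty (↥L ≃* Matrix.ProjectiveSpecialLinearGroup (Fin 2) (ZMod p))
  two : ∀ {a b c d : Ω}, a ≠ b → c ≠ d → ∃ g ∈ L, g • a = c ∧ g • b = d
  proper : L ≠ ⊤

variable {L : Subgroup X}

theorem card_L (h : Hyp p X Ω L) : Nat.card L = p * ((p - 1) / 2) * (p + 1) := by
  obtain ⟨e⟩ := h.iso
  rw [Nat.card_congr e.toEquiv, card_psl_zmod (by have := h.seven; omega)]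

theorem eq_one_of_fix_all (h : Hyp p X Ω L) {g : X} (hg : ∀ z : Ω, g • z = z) : g = 1 := by
  have := h.faithful
  exact FaithfulSMul.eq_of_smul_eq_smul (α := Ω) fun z => by rw [hg z, one_smul]

/-- The order of a point stabiliser in `L`. -/
theorem card_point (h : Hyp p X Ω L) (ω : Ω) :
    Nat.card (L ⊓ stabilizer X ω : Subgroup X) = p * ((p - 1) / 2) := by
  obtain ⟨α, hα⟩ : ∃ α : Ω, α ≠ ω := Fintype.exists_ne_of_one_lt_card
    (by rw [h.card]; have := h.seven; omega) ω
  have horb : orbit L ω = Set.univ := by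
    refine Set.eq_univ_of_forall fun z => ?_
    rcases eq_or_ne z ω with rfl | hz
    · exact mem_orbit_self _
    · obtain ⟨g, hg, hgω, -⟩ := h.two (a := ω) (b := z) (c := z) (d := ω) hz.symm hz
      exact ⟨⟨g, hg⟩, hgω⟩
  have h1 := Subgroup.card_mul_index (stabilizer L ω)
  rw [index_stabilizer, horb, Set.ncard_univ, Nat.card_eq_fintype_card (α := Ω), h.card, card_L h,
    show stabilizer L ω = (L ⊓ stabilizer X ω).subgroupOf L by
      ext g; simp [Subgroup.mem_subgroupOf, Subgroup.smul_def],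
    Nat.card_congr (Subgroup.subgroupOfEquivOfLe (inf_le_left : L ⊓ stabilizer X ω ≤ L)).toEquiv] at h1
  exact Nat.eq_of_mul_eq_mul_right (by omega) h1

/-- The order of the stabiliser of two points in `L`. -/
theorem card_pair (h : Hyp p X Ω L) {ω α : Ω} (hne : ω ≠ α) :
    Nat.card (L ⊓ stabilizer X ω ⊓ stabilizer X α : Subgroup X) = (p - 1) / 2 := by
  set M := L ⊓ stabilizer X ω with hM
  have horb : orbit M α = ({ω} : Set Ω)ᶜ := by
    ext z
    constructor
    · rintro ⟨g, rfl⟩ hz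
      exact hne.symm (smul_left_cancel (g : X) ((Set.mem_singleton_iff.1 hz).trans g.2.2.symm))
    · intro hz
      obtain ⟨g, hg, hgω, hgα⟩ := h.two hne (Ne.symm (Set.mem_compl_singleton_iff.1 hz))
      exact ⟨⟨g, hg, hgω⟩, hgα⟩
  have h1 := Subgroup.card_mul_index (stabilizer M α)
  rw [index_stabilizer, horb, Set.ncard_compl, Set.ncard_singleton, Nat.card_eq_fintype_card (α := Ω), h.card,
    card_point h ω, show stabilizer M α = (M ⊓ stabilizer X α).subgroupOf M by
      ext g; simp [Subgroup.mem_subgroupOf, Subgroup.smul_def],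
    Nat.card_congr (Subgroup.subgroupOfEquivOfLe (inf_le_left : M ⊓ stabilizer X α ≤ M)).toEquiv,
    show p + 1 - 1 = p by omega, mul_comm p] at h1
  exact Nat.eq_of_mul_eq_mul_right hp.out.pos h1

/-- An element of order `p` fixing `ω` moves every other point cyclically. -/
theorem exists_sigma (h : Hyp p X Ω L) (ω : Ω) :
    ∃ σ ∈ L, orderOf σ = p ∧ σ • ω = ω ∧ (∀ y z : Ω, y ≠ ω → z ≠ ω → ∃ n : ℕ, σ ^ n • y = z) ∧
      ∀ g ∈ L, g • ω = ω → g * σ * g⁻¹ ∈ Subgroup.zpowers σ := by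
  set M := L ⊓ stabilizer X ω with hM
  have hMc := card_point h ω
  rw [← hM] at hMc
  obtain ⟨σ', hσ'⟩ := exists_prime_orderOf_dvd_card' (G := M) p (by rw [hMc]; exact dvd_mul_right _ _)
  set σ : X := σ'.1 with hσdef
  have hσ : orderOf σ = p := (Subgroup.orderOf_coe σ').trans hσ'
  have hfixω : σ • ω = ω := σ'.2.2
  have hmove : ∃ y : Ω, σ • y ≠ y := by
    by_contra hc
    push Not at hc
    have := eq_one_of_fix_all h hc
    rw [this, orderOf_one] at hσ
    exact hp.out.one_lt.ne hσ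
  obtain ⟨y₀, hy₀⟩ := hmove
  have horb : ∀ y : Ω, σ • y ≠ y → Function.minimalPeriod (σ • · : Ω → Ω) y = p := by
    intro y hy
    have hd : Function.minimalPeriod (σ • · : Ω → Ω) y ∣ p := by
      refine Function.IsPeriodicPt.minimalPeriod_dvd ?_
      show (σ • · : Ω → Ω)^[p] y = y
      simp [smul_iterate, ← hσ, pow_orderOf_eq_one]
    refine ((Nat.dvd_prime hp.out).1 hd).resolve_left fun h1 => hy ?_
    have h2 := Function.iterate_minimalPeriod (f := (σ • · : Ω → Ω)) (x := y)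
    rw [h1] at h2
    exact h2
  have himg : ∀ y : Ω, σ • y ≠ y →
      (Finset.range p).image (fun n => σ ^ n • y) = Finset.univ.erase ω := by
    intro y hy
    refine Finset.eq_of_subset_of_card_le ?_ ?_
    · intro z hz
      obtain ⟨n, -, rfl⟩ := Finset.mem_image.1 hz
      refine Finset.mem_erase.2 ⟨fun hzω => ?_, Finset.mem_univ _⟩
      have hpn : σ ^ n • ω = ω := by
        clear hzω hz
        induction n with
        | zero => simp
        | succ n ih => rw [pow_succ, mul_smul, hfixω, ih]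
      exact hy (smul_left_cancel (σ ^ n) (hzω.trans hpn.symm) ▸ hfixω)
    · rw [Finset.card_erase_of_mem (Finset.mem_univ _), Finset.card_univ, h.card,
        Finset.card_image_of_injOn, Finset.card_range]
      · omega
      · intro i hi j hj hij
        rw [Finset.coe_range, Set.mem_Iio, ← horb y hy] at hi hj
        refine Function.iterate_injOn_Iio_minimalPeriod (f := (σ • · : Ω → Ω)) (x := y) hi hj ?_
        simpa [smul_iterate] using hij
  have hall : ∀ y : Ω, y ≠ ω → σ • y ≠ y := by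
    intro y hy e
    have hmem : y ∈ (Finset.range p).image (fun n => σ ^ n • y₀) := by
      rw [himg y₀ hy₀]
      exact Finset.mem_erase.2 ⟨hy, Finset.mem_univ _⟩
    obtain ⟨n, -, rfl⟩ := Finset.mem_image.1 hmem
    rw [← mul_smul, ← pow_succ', pow_succ, mul_smul] at e
    exact hy₀ (smul_left_cancel _ e)
  refine ⟨σ, σ'.2.1, hσ, hfixω, fun y z hy hz => ?_, fun g hg hgω => ?_⟩
  · have hmem : z ∈ (Finset.range p).image (fun n => σ ^ n • y) := by
      rw [himg y (hall y hy)]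
      exact Finset.mem_erase.2 ⟨hz, Finset.mem_univ _⟩
    obtain ⟨n, -, hn⟩ := Finset.mem_image.1 hmem
    exact ⟨n, hn⟩
  -- the subgroup of order `p` is normal in the point stabiliser
  · obtain ⟨k, hk, hM'⟩ : ∃ k, k < p ∧ Nat.card M = p * k :=
      ⟨(p - 1) / 2, by have := h.seven; omega, hMc⟩
    have hk0 : k ≠ 0 := fun e => by rw [e, mul_zero] at hM'; exact Nat.card_pos.ne' hM'
    have hS : Nat.card (Subgroup.zpowers σ') = p ^ (Nat.card M).factorization p := by
      rw [hM', Nat.factorization_mul hp.out.ne_zero hk0, Nat.card_zpowers, hσ', Finsupp.add_apply,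
        hp.out.factorization_self,
        Nat.factorization_eq_zero_of_not_dvd (fun hd => absurd (Nat.le_of_dvd (Nat.pos_of_ne_zero hk0) hd) (by omega)),
        add_zero, pow_one]
    let P : Sylow p M := Sylow.ofCard (Subgroup.zpowers σ') hS
    have hP : (P : Subgroup M) = Subgroup.zpowers σ' := Sylow.coe_ofCard _ _
    have hone : Nat.card (Sylow p M) = 1 := by
      have h1 := card_sylow_modEq_one p M
      have h2 : Nat.card (Sylow p M) ∣ k := by
        refine (P.card_dvd_index).trans ?_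
        have h3 := (P : Subgroup M).card_mul_index
        rw [hP, Nat.card_zpowers, hσ', hM'] at h3
        rw [hP, Nat.eq_of_mul_eq_mul_left hp.out.pos h3]
      have h4 := Nat.le_of_dvd (Nat.pos_of_ne_zero hk0) h2
      rwa [Nat.ModEq, Nat.mod_eq_of_lt (by omega), Nat.mod_eq_of_lt hp.out.one_lt] at h1
    have : Subsingleton (Sylow p M) := (Nat.card_eq_one_iff_unique.1 hone).1
    have hn : (Subgroup.zpowers σ').Normal := hP ▸ P.normal_of_subsingleton
    obtain ⟨n, hn'⟩ := Subgroup.mem_zpowers_iff.1 (hn.conj_mem σ' (Subgroup.mem_zpowers _) ⟨g, hg, hgω⟩)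
    exact Subgroup.mem_zpowers_iff.2 ⟨n, by simpa [hσdef] using congrArg Subtype.val hn'⟩

/-- The elements fixing `ω, α` and normalising the subgroup of order `p` at `ω`. -/
def Nx (σ : X) (ω α : Ω) : Subgroup X where
  carrier := {g | g • ω = ω ∧ g • α = α ∧ g ∈ Subgroup.normalizer ((Subgroup.zpowers σ : Subgroup X) : Set X)}
  one_mem' := ⟨one_smul _ _, one_smul _ _, one_mem _⟩
  mul_mem' ha hb := ⟨by rw [mul_smul, hb.1, ha.1], by rw [mul_smul, hb.2.1, ha.2.1], mul_mem ha.2.2 hb.2.2⟩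
  inv_mem' ha := ⟨by rw [inv_smul_eq_iff, ha.1], by rw [inv_smul_eq_iff, ha.2.1], inv_mem ha.2.2⟩

theorem pow_fix {g : X} {z : Ω} (hg : g • z = z) (n : ℕ) : g ^ n • z = z := by
  induction n with
  | zero => simp
  | succ n ih => rw [pow_succ, mul_smul, hg, ih]

section cyclic

variable {σ : X} {ω α : Ω}

/-- An element commuting with `σ` and fixing two points is trivial. -/
theorem eq_one_of_comm (h : Hyp p X Ω L) (hcyc : ∀ y z : Ω, y ≠ ω → z ≠ ω → ∃ n : ℕ, σ ^ n • y = z)
    (hne : α ≠ ω) {g : X} (hgω : g • ω = ω) (hgα : g • α = α) (hc : Commute g σ) : g = 1 :=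
  eq_one_of_fix_all h fun z => by
    rcases eq_or_ne z ω with rfl | hz
    · exact hgω
    · obtain ⟨n, rfl⟩ := hcyc α z hne hz
      rw [← mul_smul, (hc.pow_right n).eq, mul_smul, hgα]

/-- Elements of `Nx` other than one fix only `ω` and `α`. -/
theorem free (h : Hyp p X Ω L) (hσ : orderOf σ = p) (hσω : σ • ω = ω)
    (hcyc : ∀ y z : Ω, y ≠ ω → z ≠ ω → ∃ n : ℕ, σ ^ n • y = z) (hne : α ≠ ω)
    {g : X} (hg : g ∈ Nx σ ω α) {z : Ω} (hzω : z ≠ ω) (hzα : z ≠ α) (hgz : g • z = z) : g = 1 := by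
  obtain ⟨n, hn⟩ := hcyc α z hne hzω
  have hmem : g * σ ^ n * g⁻¹ ∈ Subgroup.zpowers σ :=
    (Subgroup.mem_normalizer_iff.1 hg.2.2 _).1 (pow_mem (Subgroup.mem_zpowers σ) n)
  have hia : g⁻¹ • α = α := by rw [inv_smul_eq_iff, hg.2.1]
  have h1 : (g * σ ^ n * g⁻¹) • α = z := by rw [mul_smul, mul_smul, hia, hn, hgz]
  set τ := (σ ^ n)⁻¹ * (g * σ ^ n * g⁻¹) with hτ
  have hτmem : τ ∈ Subgroup.zpowers σ := mul_mem (inv_mem (pow_mem (Subgroup.mem_zpowers σ) n)) hmem
  have hτα : τ • α = α := by rw [hτ, mul_smul, h1, inv_smul_eq_iff, hn]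
  have : IsOfFinOrder σ := isOfFinOrder_of_finite σ
  have hτ1 : τ = 1 := by
    obtain ⟨j, hj⟩ := this.mem_powers_iff_mem_zpowers.2 hτmem
    have hj' : σ ^ j = τ := hj
    refine eq_one_of_comm h hcyc hne ?_ hτα (hj' ▸ (Commute.refl σ).pow_left j)
    rw [← hj']
    exact pow_fix hσω j
  rw [hτ, inv_mul_eq_one, eq_mul_inv_iff_mul_eq] at hτ1
  have hn0 : ¬ p ∣ n := fun hd => hzα (by
    rw [← hn, orderOf_dvd_iff_pow_eq_one.1 (hσ.symm ▸ hd), one_smul])
  obtain ⟨k, hk⟩ := exists_pow_eq_self_of_coprime (n := n) (x := σ)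
    (by rw [hσ]; exact ((Nat.Prime.coprime_iff_not_dvd hp.out).2 hn0).symm)
  refine eq_one_of_comm h hcyc hne hg.1 hg.2.1 ?_
  rw [← hk]
  exact Commute.pow_right hτ1.symm k

theorem Nx_cyclic (h : Hyp p X Ω L) (hσ : orderOf σ = p)
    (hcyc : ∀ y z : Ω, y ≠ ω → z ≠ ω → ∃ n : ℕ, σ ^ n • y = z) (hne : α ≠ ω) :
    IsCyclic (Nx σ ω α) ∧ Nat.card (Nx σ ω α) ∣ p - 1 := by
  have hcard : Nat.card (Subgroup.zpowers σ) = p := by rw [Nat.card_zpowers, hσ]
  let ψ : MulAut (Subgroup.zpowers σ) ≃* (ZMod p)ˣ :=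
    (IsCyclic.mulAutMulEquiv (Subgroup.zpowers σ)).trans
      (Units.mapEquiv (ZMod.ringEquivCongr hcard).toMulEquiv)
  let f : Nx σ ω α →* (ZMod p)ˣ := ψ.toMonoidHom.comp
    ((Subgroup.normalizerMonoidHom (Subgroup.zpowers σ)).comp
      { toFun := fun g => ⟨g.1, g.2.2.2⟩, map_one' := rfl, map_mul' := fun _ _ => rfl })
  have hf : Function.Injective f := by
    refine (injective_iff_map_eq_one f).2 fun g hg => Subtype.ext ?_
    have h1 := ψ.injective (hg.trans (map_one ψ).symm)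
    have h2 := congrArg (fun a => ((a ⟨σ, Subgroup.mem_zpowers σ⟩ : Subgroup.zpowers σ) : X)) h1
    have h3 : (g : X) * σ * (g : X)⁻¹ = σ := by simpa using h2
    exact eq_one_of_comm h hcyc hne g.2.1 g.2.2.1 (mul_inv_eq_iff_eq_mul.1 h3)
  refine ⟨isCyclic_of_injective f hf, ?_⟩
  have := Subgroup.card_dvd_of_injective f hf
  rwa [Nat.card_eq_fintype_card (α := (ZMod p)ˣ), ZMod.card_units] at this

/-- In even permutations the elements of `Nx` are those of `L`. -/
theorem Nx_eq (h : Hyp p X Ω L) (hσ : orderOf σ = p) (hσω : σ • ω = ω)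
    (hcyc : ∀ y z : Ω, y ≠ ω → z ≠ ω → ∃ n : ℕ, σ ^ n • y = z) (hne : α ≠ ω)
    (hnorm : ∀ g ∈ L, g • ω = ω → g * σ * g⁻¹ ∈ Subgroup.zpowers σ) :
    Nx σ ω α = L ⊓ stabilizer X ω ⊓ stabilizer X α := by
  have hle : L ⊓ stabilizer X ω ⊓ stabilizer X α ≤ Nx σ ω α := by
    rintro g ⟨⟨hgL, hgω⟩, hgα⟩
    refine ⟨hgω, hgα, Subgroup.mem_normalizer_iff.2 fun x => ?_⟩
    have key : ∀ k ∈ L, k • ω = ω → ∀ y ∈ Subgroup.zpowers σ, k * y * k⁻¹ ∈ Subgroup.zpowers σ := by
      intro k hk hkω y hy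
      obtain ⟨n, rfl⟩ := Subgroup.mem_zpowers_iff.1 hy
      rw [← conj_zpow]
      exact zpow_mem (hnorm k hk hkω) n
    refine ⟨key g hgL hgω x, fun hx => ?_⟩
    have h' := key g⁻¹ (inv_mem hgL) (by rw [inv_smul_eq_iff]; exact hgω.symm) _ hx
    simpa [mul_assoc] using h'
  obtain ⟨hcyc', hdvd⟩ := Nx_cyclic h hσ hcyc hne
  refine (Subgroup.eq_of_le_of_card_ge hle ?_).symm
  rw [card_pair h hne.symm]
  by_contra hlt
  rw [not_le] at hlt
  -- otherwise a generator is an odd permutation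
  have hm : Nat.card (L ⊓ stabilizer X ω ⊓ stabilizer X α : Subgroup X) ∣ Nat.card (Nx σ ω α) :=
    Subgroup.card_dvd_of_le hle
  rw [card_pair h hne.symm] at hm
  have hN : Nat.card (Nx σ ω α) = p - 1 := by
    have hodd : p % 2 = 1 := (hp.out.eq_two_or_odd).resolve_left (by have := h.seven; omega)
    obtain ⟨a, ha⟩ := hm
    have h1 := Nat.le_of_dvd (by have := h.seven; omega) hdvd
    rw [ha] at h1 hlt ⊢
    have h2 : 2 ≤ a := by
      by_contra hc
      interval_cases a <;> simp at hlt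
    have h3 : (p - 1) / 2 * 2 = p - 1 := by omega
    rcases eq_or_lt_of_le h2 with rfl | h3'
    · exact h3
    · exfalso
      have : (p - 1) / 2 * 3 ≤ (p - 1) / 2 * a := Nat.mul_le_mul_left _ h3'
      have := h.seven
      omega
  obtain ⟨γ', hγ⟩ := hcyc'.exists_generator
  set γ : X := γ'.1 with hγdef
  have hγord : orderOf γ = p - 1 := by
    rw [hγdef, Subgroup.orderOf_coe, orderOf_eq_card_of_forall_mem_zpowers hγ, hN]
  set π : Equiv.Perm Ω := MulAction.toPerm γ with hπ
  have hπn : ∀ (n : ℕ) (z : Ω), (π ^ n) z = γ ^ n • z := by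
    intro n
    induction n with
    | zero => simp
    | succ n ih =>
      intro z
      rw [pow_succ, pow_succ, Equiv.Perm.mul_apply, ih, mul_smul]
      rfl
  obtain ⟨z₀, hz₀⟩ : ∃ z, z ∉ ({ω, α} : Finset Ω) := by
    by_contra hc
    push Not at hc
    have := Finset.card_le_card (s := Finset.univ) fun z _ => hc z
    rw [Finset.card_univ, h.card] at this
    have := Finset.card_le_two (a := ω) (b := α)
    have := h.seven
    omega
  simp only [Finset.mem_insert, Finset.mem_singleton, not_or] at hz₀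
  have hmem : ∀ n : ℕ, γ ^ n ∈ Nx σ ω α := fun n => pow_mem γ'.2 n
  have himg : (Finset.range (p - 1)).image (fun n => γ ^ n • z₀) = Finset.univ \ {ω, α} := by
    refine Finset.eq_of_subset_of_card_le ?_ ?_
    · intro z hz
      obtain ⟨n, -, rfl⟩ := Finset.mem_image.1 hz
      simp only [Finset.mem_sdiff, Finset.mem_univ, true_and, Finset.mem_insert, Finset.mem_singleton, not_or]
      exact ⟨fun e => hz₀.1 (smul_left_cancel _ (e.trans (hmem n).1.symm)),
        fun e => hz₀.2 (smul_left_cancel _ (e.trans (hmem n).2.1.symm))⟩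
    · rw [Finset.card_sdiff_of_subset (Finset.subset_univ _), Finset.card_univ, h.card,
        Finset.card_pair hne.symm, Finset.card_image_of_injOn, Finset.card_range]
      · omega
      · intro i hi j hj hij
        rw [Finset.coe_range, Set.mem_Iio, ← hγord] at hi hj
        have h1 : ((γ ^ i)⁻¹ * γ ^ j) • z₀ = z₀ := by rw [mul_smul, inv_smul_eq_iff]; exact hij.symm
        have h2 := free h hσ hσω hcyc hne (mul_mem (inv_mem (hmem i)) (hmem j)) hz₀.1 hz₀.2 h1
        exact pow_injOn_Iio_orderOf hi hj (inv_mul_eq_one.1 h2)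
  have hreach : ∀ z, z ≠ ω → z ≠ α → ∃ n : ℕ, (π ^ n) z₀ = z := by
    intro z hzω hzα
    have hz : z ∈ (Finset.range (p - 1)).image (fun n => γ ^ n • z₀) := by
      rw [himg]; simp [hzω, hzα]
    obtain ⟨n, -, hn⟩ := Finset.mem_image.1 hz
    exact ⟨n, by rw [hπn]; exact hn⟩
  have hmoved : ∀ z, z ≠ ω → z ≠ α → π z ≠ z := by
    intro z hzω hzα e
    have h1 := free h hσ hσω hcyc hne γ'.2 hzω hzα e
    rw [← hγdef] at h1
    rw [h1, orderOf_one] at hγord
    have := h.seven
    omega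
  have hsupp : π.support = Finset.univ \ {ω, α} := by
    ext z
    simp only [Equiv.Perm.mem_support, Finset.mem_sdiff, Finset.mem_univ, true_and, Finset.mem_insert,
      Finset.mem_singleton, not_or]
    refine ⟨fun hz => ⟨fun e => hz ?_, fun e => hz ?_⟩, fun hz => hmoved z hz.1 hz.2⟩
    · rw [e]; exact γ'.2.1
    · rw [e]; exact γ'.2.2.1
  have hcycle : π.IsCycle := by
    refine ⟨z₀, hmoved z₀ hz₀.1 hz₀.2, fun z hz => ?_⟩
    have hz' : z ∈ π.support := Equiv.Perm.mem_support.2 hz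
    rw [hsupp] at hz'
    simp only [Finset.mem_sdiff, Finset.mem_univ, true_and, Finset.mem_insert, Finset.mem_singleton, not_or] at hz'
    obtain ⟨n, hn⟩ := hreach z hz'.1 hz'.2
    exact ⟨n, by rw [zpow_natCast, hn]⟩
  have hs := hcycle.sign
  rw [hsupp, Finset.card_sdiff_of_subset (Finset.subset_univ _), Finset.card_univ, h.card,
    Finset.card_pair hne.symm, hπ, h.sign γ] at hs
  rw [Even.neg_one_pow (by
    rw [Nat.even_iff]
    have hodd : p % 2 = 1 := (hp.out.eq_two_or_odd).resolve_left (by have := h.seven; omega)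
    omega)] at hs
  exact absurd hs (by decide)

end cyclic

/-- The stabiliser of two points in `L` is cyclic and semiregular on the other points. -/
theorem pair_facts (h : Hyp p X Ω L) {ω α : Ω} (hne : ω ≠ α) :
    IsCyclic (L ⊓ stabilizer X ω ⊓ stabilizer X α : Subgroup X) ∧
      ∀ g ∈ L ⊓ stabilizer X ω ⊓ stabilizer X α, ∀ z, z ≠ ω → z ≠ α → g • z = z → g = 1 := by
  obtain ⟨σ, -, hσ, hσω, hcyc, hnorm⟩ := exists_sigma h ω
  rw [← Nx_eq h hσ hσω hcyc hne.symm hnorm]
  exact ⟨(Nx_cyclic h hσ hcyc hne.symm).1, fun g hg z hzω hzα hgz => free h hσ hσω hcyc hne.symm hg hzω hzα hgz⟩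

end Cfsg.Agent.HalfNorm.PSLExt
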