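import Cfsg.Agent.Classical.PSLKlein

/-!
# Involutions of `PSL(2, p)`, `p ≡ 3 (mod 4)`

The centraliser of an involution has order `p + 1`, so meets a cyclic group of odd order `(p - 1) / 2` trivially.
-/

set_option autoImplicit false

namespace Cfsg.Agent.HalfNorm

open Cfsg.Agent.SL2Class Cfsg.Agent.Classical

variable {p : ℕ} [hp : Fact p.Prime]

local notation "PG" => Matrix.ProjectiveSpecialLinearGroup (Fin 2) (ZMod p)

theorem two_ne_zero_zmod (hp2 : p ≠ 2) : (2 : ZMod p) ≠ 0 := fun h => by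
  have h' : ((2 : ℕ) : ZMod p) = 0 := by exact_mod_cast h
  rw [ZMod.natCast_eq_zero_iff] at h'
  exact hp2 ((Nat.prime_dvd_prime_iff_eq hp.out Nat.prime_two).1 h')

theorem card_psl_zmod (hp2 : p ≠ 2) : Nat.card PG = p * ((p - 1) / 2) * (p + 1) := by
  have h := PKlein.card_psl_two (F := ZMod p) (two_ne_zero_zmod hp2)
  rw [card_sl, ZMod.card] at h
  have h1 : p % 2 = 1 := (hp.out.eq_two_or_odd).resolve_left hp2
  obtain ⟨k, rfl⟩ : ∃ k, p = 2 * k + 1 := ⟨p / 2, by omega⟩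
  rw [show (2 * k + 1 - 1) / 2 = k by omega]
  have h2 : (2 * k + 1) ^ 2 - 1 = 2 * k * (2 * k + 1 + 1) :=
    Nat.sub_eq_of_eq_add (by ring)
  rw [h2] at h
  refine Nat.eq_of_mul_eq_mul_left two_pos (h.trans ?_)
  ring

theorem card_centralizer_invol (h4 : p % 4 = 3) {x : PG} (hx1 : x ≠ 1) (hx2 : x * x = 1) :
    Nat.card (Subgroup.centralizer ({x} : Set PG)) = p + 1 := by
  have hp2 : p ≠ 2 := by omega
  have h2 := two_ne_zero_zmod hp2
  obtain ⟨g, rfl⟩ := proj_surjective x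
  have hg : g * g = -1 := (PKlein.involution_iff h2).1 ⟨hx1, hx2⟩
  obtain ⟨hns, htr, -, -⟩ := PKlein.t0_props h2 hg
  have hnr : NoRoot (tr g) := by
    intro r hr
    rw [htr] at hr
    have : IsSquare (-1 : ZMod p) := ⟨r, by linear_combination -hr⟩
    exact (ZMod.exists_sq_eq_neg_one_iff.1 this) h4
  have hS := card_cent_noRoot hnr hns
  have hi := index_proj_trace_zero h2 htr
  have hPG := Subgroup.card_mul_index (Subgroup.centralizer ({proj g} : Set PG))
  have hSG := Subgroup.card_mul_index (Subgroup.centralizer ({g} : Set (Matrix.SpecialLinearGroup (Fin 2) (ZMod p))))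
  rw [← PKlein.card_psl_two (F := ZMod p) h2, ← hPG, hS, ← hi, ZMod.card] at hSG
  have hpos : 0 < (Subgroup.centralizer ({proj g} : Set PG)).index :=
    Nat.pos_of_ne_zero Subgroup.index_ne_zero_of_finite
  exact (Nat.eq_of_mul_eq_mul_right (Nat.mul_pos hpos two_pos) (hSG.trans (by ring))).symm

theorem eq_one_of_commute_invol (h4 : p % 4 = 3) {x c : PG} (hx1 : x ≠ 1) (hx2 : x * x = 1)
    (hc : c ^ ((p - 1) / 2) = 1) (hcomm : c * x = x * c) : c = 1 := by
  have h1 : orderOf c ∣ p + 1 := by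
    rw [← card_centralizer_invol h4 hx1 hx2]
    exact Subgroup.orderOf_dvd_natCard _ (Subgroup.mem_centralizer_singleton_iff.2 hcomm)
  have h2 : orderOf c ∣ (p - 1) / 2 := orderOf_dvd_of_pow_eq_one hc
  have h3 : orderOf c ∣ 2 := by
    have h := Nat.dvd_sub h1 (h2.trans (Nat.div_dvd_of_dvd (by omega)))
    rwa [show p + 1 - (p - 1) = 2 by omega] at h
  have h5 : orderOf c ∣ Nat.gcd 2 ((p - 1) / 2) := Nat.dvd_gcd h3 h2
  rw [(Nat.coprime_two_left.2 (Nat.odd_iff.2 (by omega)) : Nat.Coprime 2 ((p - 1) / 2)).gcd_eq_one] at h5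
  exact orderOf_eq_one_iff.1 (Nat.dvd_one.1 h5)

end Cfsg.Agent.HalfNorm
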