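import Cfsg.Agent.HalfNorm.Identity
import Cfsg.Prelude.Def_Perm
import Mathlib.FieldTheory.Finite.Basic
import Mathlib.Algebra.Field.ZMod
import Mathlib.RingTheory.IntegralDomain
import Mathlib.Algebra.Field.GeomSum

/-!
# Ordered pairs of points of the affine line over `ZMod p`

An operator on functions of ordered pairs commuting with the translations and the square
scalings satisfies the Hall identity up to nilpotent operators.
-/

set_option autoImplicit false

namespace Cfsg.Agent.HalfNorm

open Cfsg

/-- An ordered pair of distinct points, stored as the first point and the difference. -/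
abbrev Prs (p : ℕ) : Type := ZMod p × (ZMod p)ˣ

variable {p : ℕ} [Fact p.Prime]

/-- Functions of the difference. -/
abbrev Dif (p : ℕ) : Type := (ZMod p)ˣ → ZMod p

/-- Sum over all pairs of given difference. -/
def q : (Prs p → ZMod p) →ₗ[ZMod p] Dif p where
  toFun f d := ∑ a, f (a, d)
  map_add' f g := by ext d; simp [Finset.sum_add_distrib]
  map_smul' c f := by ext d; simp [Finset.mul_sum]

/-- The section of `q` supported at first point `0`. -/
def sec : Dif p →ₗ[ZMod p] (Prs p → ZMod p) where
  toFun y x := if x.1 = 0 then y x.2 else 0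
  map_add' f g := by ext x; by_cases h : x.1 = 0 <;> simp [h]
  map_smul' c f := by ext x; by_cases h : x.1 = 0 <;> simp [h]

theorem q_sec (y : Dif p) : q (sec y) = y := by
  ext d
  simp [q, sec]

/-- Translation. -/
def T : Module.End (ZMod p) (Prs p → ZMod p) where
  toFun f x := f (x.1 - 1, x.2)
  map_add' _ _ := rfl
  map_smul' _ _ := rfl

/-- Scaling by `u`. -/
def L (u : (ZMod p)ˣ) : Module.End (ZMod p) (Prs p → ZMod p) where
  toFun f x := f ((u : ZMod p) * x.1, u * x.2)
  map_add' _ _ := rfl
  map_smul' _ _ := rfl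

/-- Scaling of differences by `u`. -/
def Lbar (u : (ZMod p)ˣ) : Module.End (ZMod p) (Dif p) where
  toFun y d := y (u * d)
  map_add' _ _ := rfl
  map_smul' _ _ := rfl

theorem T_pow_apply (n : ℕ) (f : Prs p → ZMod p) (x : Prs p) :
    (T ^ n) f x = f (x.1 - n, x.2) := by
  induction n generalizing x with
  | zero => simp
  | succ n ih =>
    rw [pow_succ', Module.End.mul_apply]
    show (T ^ n) f (x.1 - 1, x.2) = _
    rw [ih]
    congr 2
    push_cast
    ring

theorem T_pow_p : (T : Module.End (ZMod p) (Prs p → ZMod p)) ^ p = 1 := by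
  refine LinearMap.ext fun f => funext fun x => ?_
  rw [T_pow_apply]
  simp

theorem q_T (f : Prs p → ZMod p) : q (T f) = q f := by
  ext d
  exact Fintype.sum_equiv (Equiv.subRight (1 : ZMod p)) _ _ fun a => rfl

theorem ker_q {f : Prs p → ZMod p} (hf : q f = 0) : ∃ g, T g - g = f := by
  let g : Prs p → ZMod p := fun x => -∑ i ∈ Finset.range x.1.val, f (((i + 1 : ℕ) : ZMod p), x.2)
  refine ⟨g, funext fun ⟨a, d⟩ => ?_⟩
  show g (a - 1, d) - g (a, d) = f (a, d)
  obtain ⟨n, rfl⟩ : ∃ n : ℕ, (n : ZMod p) = a := ⟨a.val, ZMod.natCast_zmod_val a⟩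
  have hsum : ∀ m : ℕ, m < p → g ((m : ZMod p), d) = -∑ i ∈ Finset.range m, f (((i + 1 : ℕ) : ZMod p), d) := by
    intro m hm
    show -∑ i ∈ Finset.range (m : ZMod p).val, _ = _
    rw [ZMod.val_natCast, Nat.mod_eq_of_lt hm]
  have hp : 0 < p := (Fact.out : p.Prime).pos
  have hn : ((n % p : ℕ) : ZMod p) = (n : ZMod p) := ZMod.natCast_mod n p
  have hnp := Nat.mod_lt n hp
  rw [← hn]
  generalize n % p = m at hnp
  rcases Nat.eq_zero_or_pos m with rfl | hm
  · have hz : q f d = 0 := congrFun hf d
    have h1 : ((0 : ℕ) : ZMod p) - 1 = ((p - 1 : ℕ) : ZMod p) := by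
      rw [Nat.cast_sub hp, ZMod.natCast_self, Nat.cast_one, Nat.cast_zero]
    rw [h1, hsum _ (by omega), hsum 0 hp, Finset.sum_range_zero]
    have h2 : q f d = ∑ i ∈ Finset.range p, f ((i : ZMod p), d) := by
      show ∑ a, f (a, d) = _
      refine Finset.sum_bij (fun a _ => a.val) (fun a _ => Finset.mem_range.2 (ZMod.val_lt a))
        (fun a _ b _ h => ZMod.val_injective p h) (fun i hi => ⟨(i : ZMod p), Finset.mem_univ _, ?_⟩)
        (fun a _ => by rw [ZMod.natCast_zmod_val])
      rw [ZMod.val_natCast, Nat.mod_eq_of_lt (Finset.mem_range.1 hi)]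
    obtain ⟨k, hk⟩ : ∃ k, p = k + 1 := ⟨p - 1, by omega⟩
    rw [h2, Finset.range_eq_Ico] at hz
    rw [← Finset.range_eq_Ico] at hz
    have h3 : ∑ i ∈ Finset.range (p - 1), f (((i + 1 : ℕ) : ZMod p), d) + f (((0 : ℕ) : ZMod p), d) = 0 := by
      rw [show p - 1 = k by omega, ← Finset.sum_range_succ' (fun i => f ((i : ZMod p), d)), ← hk]
      exact hz
    linear_combination -h3
  · obtain ⟨k, rfl⟩ : ∃ k, m = k + 1 := ⟨m - 1, by omega⟩
    have h1 : ((k + 1 : ℕ) : ZMod p) - 1 = (k : ZMod p) := by push_cast; ring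
    rw [h1, hsum _ (by omega), hsum _ hnp, Finset.sum_range_succ]
    ring

/-- The operators commuting with translations and square scalings. -/
structure Good (E : Module.End (ZMod p) (Prs p → ZMod p)) : Prop where
  translation : ∀ f, E (T f) = T (E f)
  scaling : ∀ (u : (ZMod p)ˣ), IsSquare u → ∀ f, E (L u f) = L u (E f)

namespace Good

variable {A B : Module.End (ZMod p) (Prs p → ZMod p)}

theorem mul (ha : Good A) (hb : Good B) : Good (A * B) where
  translation f := by simp only [Module.End.mul_apply, ha.translation, hb.translation]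
  scaling u hu f := by simp only [Module.End.mul_apply, ha.scaling u hu, hb.scaling u hu]

theorem sub (ha : Good A) (hb : Good B) : Good (A - B) where
  translation f := by simp only [LinearMap.sub_apply, ha.translation, hb.translation, map_sub]
  scaling u hu f := by simp only [LinearMap.sub_apply, ha.scaling u hu, hb.scaling u hu, map_sub]

theorem hall' {C : Module.End (ZMod p) (Prs p → ZMod p)} (ha : Good A) (hb : Good B) (hc : Good C) :
    Good (hall A B C) := by
  have h := (ha.mul hb).sub (hb.mul ha)
  exact ((h.mul h).mul hc).sub (hc.mul (h.mul h))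

end Good

/-- The operator induced on functions of the difference. -/
def bar (A : Module.End (ZMod p) (Prs p → ZMod p)) : Module.End (ZMod p) (Dif p) :=
  q.comp (A.comp sec)

theorem q_apply_good {A : Module.End (ZMod p) (Prs p → ZMod p)} (ha : Good A)
    (f : Prs p → ZMod p) : q (A f) = bar A (q f) := by
  obtain ⟨g, hg⟩ := ker_q (f := f - sec (q f)) (by rw [map_sub, q_sec, sub_self])
  have h : q (A (f - sec (q f))) = 0 := by
    rw [← hg, map_sub, ha.translation, map_sub, q_T, sub_self]
  rw [map_sub, map_sub, sub_eq_zero] at h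
  exact h

theorem bar_mul {A B : Module.End (ZMod p) (Prs p → ZMod p)} (ha : Good A) :
    bar (A * B) = bar A * bar B :=
  LinearMap.ext fun y => q_apply_good ha (B (sec y))

theorem bar_sub (A B : Module.End (ZMod p) (Prs p → ZMod p)) : bar (A - B) = bar A - bar B := by
  refine LinearMap.ext fun y => ?_
  show q ((A - B) (sec y)) = q (A (sec y)) - q (B (sec y))
  rw [LinearMap.sub_apply, map_sub]

theorem bar_hall {A B C : Module.End (ZMod p) (Prs p → ZMod p)} (ha : Good A) (hb : Good B)
    (hc : Good C) : bar (hall A B C) = hall (bar A) (bar B) (bar C) := by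
  have h := (ha.mul hb).sub (hb.mul ha)
  simp only [hall, bar_sub]
  rw [bar_mul (h.mul h), bar_mul h, bar_mul hc, bar_mul h, bar_sub, bar_mul ha, bar_mul hb]

theorem sec_Lbar (u : (ZMod p)ˣ) (y : Dif p) : sec (Lbar u y) = L u (sec y) := by
  ext x
  by_cases h : x.1 = 0 <;> simp [sec, L, Lbar, h]

theorem q_L (u : (ZMod p)ˣ) (f : Prs p → ZMod p) : q (L u f) = Lbar u (q f) := by
  ext d
  exact Fintype.sum_equiv (Units.mulLeft u) _ _ fun a => rfl

theorem bar_comm {A : Module.End (ZMod p) (Prs p → ZMod p)} (ha : Good A) {u : (ZMod p)ˣ}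
    (hu : IsSquare u) (y : Dif p) : bar A (Lbar u y) = Lbar u (bar A y) := by
  show q (A (sec (Lbar u y))) = Lbar u (q (A (sec y)))
  rw [sec_Lbar, ha.scaling u hu, q_L]

/-- A generator `r` of the units and its square as a scaling. -/
theorem hall_dif_eq_zero (a b c : Module.End (ZMod p) (Dif p))
    (ha : ∀ u : (ZMod p)ˣ, IsSquare u → ∀ y, a (Lbar u y) = Lbar u (a y))
    (hb : ∀ u : (ZMod p)ˣ, IsSquare u → ∀ y, b (Lbar u y) = Lbar u (b y))
    (hc : ∀ u : (ZMod p)ˣ, IsSquare u → ∀ y, c (Lbar u y) = Lbar u (c y)) :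
    hall a b c = 0 := by
  classical
  obtain ⟨r, hr⟩ := IsCyclic.exists_generator (α := (ZMod p)ˣ)
  set w : (ZMod p)ˣ := r * r
  have hw : IsSquare w := ⟨r, rfl⟩
  -- on each eigenspace of the scaling the identity holds
  have hW : ∀ (lam : ZMod p) (y : Dif p), Lbar w y = lam • y → hall a b c y = 0 := by
    intro lam y hy
    let W : Submodule (ZMod p) (Dif p) := LinearMap.ker (Lbar w - lam • (1 : Module.End (ZMod p) (Dif p)))
    have memW : ∀ z : Dif p, z ∈ W ↔ Lbar w z = lam • z := fun z => by
      simp [W, sub_eq_zero]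
    have inv : ∀ e : Module.End (ZMod p) (Dif p), (∀ z, e (Lbar w z) = Lbar w (e z)) →
        ∀ z ∈ W, e z ∈ W := fun e he z hz => by
      rw [memW] at hz ⊢
      rw [← he, hz, map_smul]
    let ev : W →ₗ[ZMod p] (Fin 2 → ZMod p) :=
      { toFun := fun z => ![z.1 1, z.1 r]
        map_add' := fun z z' => by ext i; fin_cases i <;> rfl
        map_smul' := fun k z => by ext i; fin_cases i <;> rfl }
    have hinj : Function.Injective ev := by
      refine (injective_iff_map_eq_zero _).2 fun z hz => ?_
      have h1 : z.1 1 = 0 := congrFun hz 0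
      have h2 : z.1 r = 0 := congrFun hz 1
      have hst : ∀ d, z.1 (w * d) = lam * z.1 d := fun d => congrFun ((memW z.1).1 z.2) d
      have hall_zero : ∀ n : ℕ, z.1 (r ^ n) = 0 := by
        intro n
        induction n using Nat.twoStepInduction with
        | zero => simpa using h1
        | one => simpa using h2
        | more n ih _ =>
          rw [show r ^ (n + 1 + 1) = w * r ^ n by rw [pow_succ, pow_succ, mul_assoc, mul_comm]]
          rw [hst, ih, mul_zero]
      refine Subtype.ext (funext fun d => ?_)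
      obtain ⟨n, rfl⟩ := (isOfFinOrder_of_finite r).mem_zpowers_iff_mem_range_orderOf.1 (hr d) |>
        fun h => (Finset.mem_image.1 h).imp fun n hn => hn.2
      exact hall_zero n
    have hdim : Module.finrank (ZMod p) W ≤ 2 := by
      have := LinearMap.finrank_le_finrank_of_injective hinj
      simpa using this
    have hya : y ∈ W := (memW y).2 hy
    let a' := a.restrict (inv a (ha w hw))
    let b' := b.restrict (inv b (hb w hw))
    let c' := c.restrict (inv c (hc w hw))
    have h := congrArg Subtype.val (LinearMap.congr_fun (hall_of_finrank_le hdim a' b' c') ⟨y, hya⟩)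
    simpa [hall, a', b', c', Module.End.mul_apply, LinearMap.restrict_apply] using h
  -- the monomials are eigenvectors and span
  refine LinearMap.ext fun y => ?_
  have hmono : ∀ j : ℕ, hall a b c (fun d => ((d : ZMod p)) ^ j) = 0 := fun j =>
    hW ((w : ZMod p) ^ j) _ (funext fun d => by simp [Lbar, mul_pow])
  have hdelta : ∀ e : (ZMod p)ˣ, (Pi.single e 1 : Dif p) =
      -∑ j ∈ Finset.range (p - 1), (((e⁻¹ : (ZMod p)ˣ) : ZMod p) ^ j) • (fun d : (ZMod p)ˣ => ((d : ZMod p)) ^ j) := by
    intro e
    funext d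
    simp only [Pi.neg_apply, Finset.sum_apply, Pi.smul_apply, smul_eq_mul, ← mul_pow]
    by_cases h : d = e
    · subst h
      simp only [Units.inv_mul, one_pow, Finset.sum_const, Finset.card_range, nsmul_eq_mul, mul_one,
        Pi.single_eq_same]
      rw [Nat.cast_sub (Fact.out : p.Prime).one_le, ZMod.natCast_self, Nat.cast_one]
      ring
    · rw [Pi.single_eq_of_ne h]
      set z : (ZMod p)ˣ := e⁻¹ * d
      have hz : (z : ZMod p) ≠ 1 := fun he => h (inv_mul_eq_one.1 (Units.ext he)).symm
      show (0 : ZMod p) = -∑ j ∈ Finset.range (p - 1), (z : ZMod p) ^ j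
      rw [geom_sum_eq hz, ← Units.val_pow_eq_pow_val,
        show z ^ (p - 1) = 1 from ZMod.units_pow_card_sub_one_eq_one p z]
      simp
  rw [LinearMap.zero_apply, pi_eq_sum_univ' y, map_sum]
  refine Finset.sum_eq_zero fun e _ => ?_
  rw [map_smul, hdelta, map_neg, map_sum, Finset.sum_eq_zero, neg_zero, smul_zero]
  intro j _
  rw [map_smul, hmono, smul_zero]

/-- The product of a Hall commutator of good operators with a good one is nilpotent. -/
theorem hall_mul_pow_eq_zero {A B C D : Module.End (ZMod p) (Prs p → ZMod p)}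
    (ha : Good A) (hb : Good B) (hc : Good C) (hd : Good D) : (hall A B C * D) ^ p = 0 := by
  set Z := hall A B C * D
  have hzg : Good Z := (Good.hall' ha hb hc).mul hd
  have hz : ∀ f, q (Z f) = 0 := fun f => by
    show q (hall A B C (D f)) = 0
    rw [q_apply_good (Good.hall' ha hb hc), bar_hall ha hb hc,
      hall_dif_eq_zero _ _ _ (fun u => bar_comm ha) (fun u => bar_comm hb) (fun u => bar_comm hc),
      LinearMap.zero_apply]
  have hstep : ∀ n : ℕ, ∀ f, ∃ g, (Z ^ n) f = (((T - 1 : Module.End (ZMod p) (Prs p → ZMod p))) ^ n) g := by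
    intro n
    induction n with
    | zero => exact fun f => ⟨f, rfl⟩
    | succ n ih =>
      intro f
      obtain ⟨h, hh⟩ := ker_q (hz f)
      obtain ⟨g, hg⟩ := ih h
      refine ⟨g, ?_⟩
      have hcomm : Commute (Z ^ n) (T - 1) :=
        ((show Commute Z (T - 1) from
          Commute.sub_right (LinearMap.ext hzg.translation) (Commute.one_right Z)).pow_left n)
      rw [pow_succ, Module.End.mul_apply, ← hh, pow_succ', Module.End.mul_apply, ← hg]
      exact LinearMap.congr_fun hcomm.eq h
  refine LinearMap.ext fun f => ?_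
  obtain ⟨g, hg⟩ := hstep p f
  rw [hg]
  have h0 : (T - 1 : Module.End (ZMod p) (Prs p → ZMod p)) ^ p = 0 :=
    sub_one_pow_char (K := ZMod p) T T_pow_p
  rw [h0]
  rfl

end Cfsg.Agent.HalfNorm
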