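import Cfsg.Agent.HalfNorm.Pairs
import Cfsg.Agent.HalfNorm.Family
import Cfsg.Agent.S0674

/-!
# At most two non-trivial orbits for the stabiliser of two points

For an insoluble group of degree `p` containing the translations and the square scalings, the
stabiliser of two points fixes at most a two dimensional subspace of the heart of the
permutation module.
-/

set_option autoImplicit false

namespace Cfsg.Agent.HalfNorm

open Cfsg Cfsg.Agent.PermGroups

variable {p : ℕ} [Fact p.Prime] (G : Subgroup (Equiv.Perm (ZMod p)))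

/-- The action on ordered pairs. -/
noncomputable instance prsAction : MulAction G (Prs p) where
  smul g x := (g.1 x.1, Units.mk0 (g.1 (x.1 + x.2) - g.1 x.1) (sub_ne_zero.2 fun h => x.2.ne_zero
    (by simpa using g.1.injective h)))
  one_smul x := Prod.ext rfl (Units.ext (by
    show (x.1 + (x.2 : ZMod p)) - x.1 = x.2
    ring))
  mul_smul g h x := Prod.ext rfl (Units.ext (by
    show g.1 (h.1 (x.1 + x.2)) - g.1 (h.1 x.1) = g.1 (h.1 x.1 + (h.1 (x.1 + x.2) - h.1 x.1)) - g.1 (h.1 x.1)
    rw [add_sub_cancel]))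

variable {G}

theorem smul_fst (g : G) (x : Prs p) : (g • x).1 = g.1 x.1 := rfl

theorem smul_snd (g : G) (x : Prs p) :
    ((g • x).2 : ZMod p) = g.1 (x.1 + x.2) - g.1 x.1 := rfl

theorem prs_pretransitive (h2 : MulAction.IsMultiplyPretransitive G (ZMod p) 2) :
    MulAction.IsPretransitive G (Prs p) := by
  have key : ∀ x : Prs p, ∃ g : G, g • ((0, 1) : Prs p) = x := fun x => by
    have hne : x.1 ≠ x.1 + x.2 := fun h => x.2.ne_zero (by simpa using h.symm)
    obtain ⟨g, hg0, hg1⟩ := (MulAction.is_two_pretransitive_iff.1 h2) (zero_ne_one (α := ZMod p)) hne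
    replace hg0 : g.1 0 = x.1 := hg0
    replace hg1 : g.1 1 = x.1 + x.2 := hg1
    refine ⟨g, Prod.ext hg0 (Units.ext ?_)⟩
    rw [smul_snd, Units.val_one, zero_add, hg0, hg1, add_sub_cancel_left]
  refine ⟨fun x y => ?_⟩
  obtain ⟨g, rfl⟩ := key x
  obtain ⟨h, rfl⟩ := key y
  exact ⟨h * g⁻¹, by rw [smul_smul, inv_mul_cancel_right]⟩

/-- Triples of functions on the points. -/
abbrev Tri (p : ℕ) : Type := Fin 3 → ZMod p → ZMod p

/-- The action on triples of functions. -/
noncomputable def triRep (G : Subgroup (Equiv.Perm (ZMod p))) : Representation (ZMod p) G (Tri p) where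
  toFun g :=
    { toFun := fun v i => permRep (ZMod p) G (ZMod p) g (v i)
      map_add' := fun v v' => funext fun i => map_add _ _ _
      map_smul' := fun c v => funext fun i => map_smul _ c _ }
  map_one' := LinearMap.ext fun v => funext fun i => by
    show permRep (ZMod p) G (ZMod p) 1 (v i) = v i
    rw [map_one]
    rfl
  map_mul' g h := LinearMap.ext fun v => funext fun i => by
    show permRep (ZMod p) G (ZMod p) (g * h) (v i) = _
    rw [map_mul]
    rfl

theorem triRep_apply (g : G) (v : Tri p) (i : Fin 3) :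
    triRep G g v i = permRep (ZMod p) G (ZMod p) g (v i) := rfl

/-- Triples of constants. -/
def C3 : Submodule (ZMod p) (Tri p) where
  carrier := {v | ∀ i x, v i x = v i 0}
  add_mem' ha hb i x := by simp [ha i x, hb i x]
  zero_mem' i x := rfl
  smul_mem' c v hv i x := by simp [hv i x]

theorem mem_C3 {v : Tri p} : v ∈ C3 ↔ ∀ i x, v i x = v i 0 := Iff.rfl

theorem triRep_mem_C3 (g : G) {v : Tri p} (hv : v ∈ C3) : triRep G g v ∈ C3 := fun i x => by
  rw [triRep_apply, permRep_apply, permRep_apply, hv i, hv i (g⁻¹ • 0)]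

/-- A matrix acting on triples. -/
def mA (A : Matrix (Fin 3) (Fin 3) (ZMod p)) : Module.End (ZMod p) (Tri p) where
  toFun v i := ∑ j, A i j • v j
  map_add' v v' := funext fun i => by simp [Finset.sum_add_distrib]
  map_smul' c v := funext fun i => by simp [Finset.smul_sum, smul_comm c]

theorem mA_apply (A : Matrix (Fin 3) (Fin 3) (ZMod p)) (v : Tri p) (i : Fin 3) :
    mA A v i = ∑ j, A i j • v j := rfl

theorem mA_mul (A B : Matrix (Fin 3) (Fin 3) (ZMod p)) : mA (A * B) = mA A * mA B := by
  refine LinearMap.ext fun v => funext fun i => ?_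
  show ∑ k, (A * B) i k • v k = ∑ j, A i j • ∑ k, B j k • v k
  simp only [Finset.smul_sum, smul_smul, Matrix.mul_apply, Finset.sum_smul]
  exact Finset.sum_comm

theorem mA_sub (A B : Matrix (Fin 3) (Fin 3) (ZMod p)) : mA (A - B) = mA A - mA B := by
  refine LinearMap.ext fun v => funext fun i => ?_
  rw [mA_apply, LinearMap.sub_apply]
  show _ = mA A v i - mA B v i
  simp [mA_apply, sub_smul, Finset.sum_sub_distrib]

theorem mA_mem_C3 (A : Matrix (Fin 3) (Fin 3) (ZMod p)) {v : Tri p} (hv : v ∈ C3) :
    mA A v ∈ C3 := fun i x => by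
  simp only [mA_apply, Finset.sum_apply, Pi.smul_apply]
  exact Finset.sum_congr rfl fun j _ => by rw [hv j x]

theorem triRep_mA (g : G) (A : Matrix (Fin 3) (Fin 3) (ZMod p)) (v : Tri p) :
    triRep G g (mA A v) = mA A (triRep G g v) := funext fun i => by
  simp only [triRep_apply, mA_apply, map_sum, map_smul]

/-- No three functions fixed by the stabiliser of `0, 1` are independent modulo the constants
in the heart of the permutation module. -/
theorem no_three [MulAction.IsPretransitive G (ZMod p)] (hG : ¬ Group.IsSolvable G)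
    (h2 : MulAction.IsMultiplyPretransitive G (ZMod p) 2)
    (hσ : ∃ σ : G, ∀ x, σ.1 x = x + 1)
    (hsq : ∀ u : (ZMod p)ˣ, IsSquare u → ∃ g : G, ∀ x, g.1 x = u * x)
    (hst : ¬ p ∣ Nat.card (MulAction.stabilizer G ((0, 1) : Prs p)))
    (c : Tri p) (hc0 : ∀ i, ∑ x, c i x = 0)
    (hfix : ∀ g : G, g • ((0, 1) : Prs p) = (0, 1) → triRep G g c = c)
    (hind : ∀ a : Fin 3 → ZMod p, (∀ x, ∑ i, a i * c i x = ∑ i, a i * c i 0) → a = 0) : False := by
  classical
  have htr := prs_pretransitive h2
  have := Fintype.ofFinite G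
  set x₀ : Prs p := (0, 1)
  obtain ⟨w, hw0, hw⟩ := exists_family (triRep G) x₀ c hfix
  let Ψ : (Prs p → ZMod p) →ₗ[ZMod p] Tri p := Fintype.linearCombination (ZMod p) w
  have hΨ : ∀ f, Ψ f = ∑ x, f x • w x := fun f => Fintype.linearCombination_apply _ _ _
  have hΨeq : ∀ (g : G) (f : Prs p → ZMod p), Ψ (permRep (ZMod p) G (Prs p) g f) = triRep G g (Ψ f) := by
    intro g f
    rw [hΨ, hΨ, map_sum]
    refine (Fintype.sum_equiv (MulAction.toPerm g) _ _ fun x => ?_).symm
    show triRep G g (f x • w x) = permRep (ZMod p) G (Prs p) g f (g • x) • w (g • x)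
    rw [map_smul, hw, permRep_apply, inv_smul_smul]
  have hΨsingle : ∀ x, Ψ (Pi.single x 1) = w x := fun x => by
    rw [hΨ, Finset.sum_eq_single x (fun y _ hy => by rw [Pi.single_eq_of_ne hy, zero_smul])
      (fun h => absurd (Finset.mem_univ x) h), Pi.single_eq_same, one_smul]
  have hsum0 : ∀ f i, ∑ x, Ψ f i x = 0 := by
    intro f i
    have h1 : ∀ y, ∑ x, w y i x = 0 := fun y => by
      obtain ⟨g, rfl⟩ := MulAction.exists_smul_eq G x₀ y
      rw [hw, hw0]
      exact (sum_permRep g (c i)).trans (hc0 i)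
    simp only [hΨ, Finset.sum_apply, Pi.smul_apply]
    rw [Finset.sum_comm]
    exact Finset.sum_eq_zero fun y _ => by rw [← Finset.smul_sum, h1, smul_zero]
  -- surjectivity modulo the constants
  have hsurj : ∀ t : Tri p, (∀ i, ∑ x, t i x = 0) → ∃ f, Ψ f - t ∈ C3 := by
    intro t ht
    by_contra hno
    have htR : t ∉ LinearMap.range Ψ ⊔ C3 := by
      intro h
      obtain ⟨r, ⟨f, rfl⟩, k, hk, hsum⟩ := Submodule.mem_sup.1 h
      exact hno ⟨f, by rw [← hsum, sub_add_cancel_left]; exact Submodule.neg_mem (C3 (p := p)) hk⟩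
    obtain ⟨φ, hφt, hφ⟩ := Submodule.exists_dual_map_eq_bot_of_notMem htR inferInstance
    let u : Tri p := fun i x => φ (Pi.single i (Pi.single x 1))
    let pair : Tri p → Tri p → ZMod p := fun v v' => ∑ i, ∑ x, v i x * v' i x
    have hφu : ∀ v, φ v = pair v u := by
      intro v
      have hv : v = ∑ i, ∑ x, v i x • (Pi.single i (Pi.single x 1) : Tri p) := by
        funext j y
        simp [Finset.sum_apply, Pi.single_apply, apply_ite (fun f : ZMod p → ZMod p => f y)]
      conv_lhs => rw [hv]
      simp [map_sum, map_smul, pair, u]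
    have hker : ∀ r ∈ LinearMap.range Ψ ⊔ C3, φ r = 0 := fun r hr => by
      have hm := Submodule.mem_map_of_mem (f := φ) hr
      rw [hφ] at hm
      exact (Submodule.mem_bot _).1 hm
    let W : Submodule (ZMod p) (Tri p) :=
      { carrier := {v | (∀ i, ∑ x, v i x = 0) ∧ ∀ f, pair (Ψ f) v = 0}
        add_mem' := fun {a b} ha hb => ⟨fun i => by simp [Finset.sum_add_distrib, ha.1 i, hb.1 i],
          fun f => by
            have h1 := ha.2 f
            have h2 := hb.2 f
            simp only [pair] at h1 h2 ⊢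
            simp [mul_add, Finset.sum_add_distrib, h1, h2]⟩
        zero_mem' := ⟨fun i => by simp, fun f => by simp [pair]⟩
        smul_mem' := fun k v hv => ⟨fun i => by simp [← Finset.mul_sum, hv.1 i], fun f => by
            have h1 := hv.2 f
            simp only [pair] at h1 ⊢
            simp [mul_left_comm _ k, ← Finset.mul_sum, h1]⟩ }
    have hpc : ∀ v ∈ C3, ∀ f, pair (Ψ f) v = 0 := fun v hv f => by
      refine Finset.sum_eq_zero fun i _ => ?_
      calc ∑ x, Ψ f i x * v i x = ∑ x, Ψ f i x * v i 0 := Finset.sum_congr rfl fun x _ => by rw [hv i x]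
        _ = 0 := by rw [← Finset.sum_mul, hsum0, zero_mul]
    have hp0 : (p : ZMod p) = 0 := ZMod.natCast_self p
    have hC3W : ∀ v ∈ C3, v ∈ W := fun v hv => ⟨fun i => by
        rw [Finset.sum_congr rfl fun x _ => hv i x, Finset.sum_const, Finset.card_univ, ZMod.card,
          nsmul_eq_mul, hp0, zero_mul], hpc v hv⟩
    have hWinv : ∀ (g : G) (v), v ∈ W → triRep G g v ∈ W := fun g v hv => ⟨fun i => by
        rw [triRep_apply, sum_permRep]; exact hv.1 i, fun f => by
      have h1 := hv.2 (permRep (ZMod p) G (Prs p) g⁻¹ f)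
      rw [hΨeq] at h1
      rw [← h1]
      refine Finset.sum_congr rfl fun i _ => (Fintype.sum_equiv (MulAction.toPerm g) _ _ fun x => ?_).symm
      show triRep G g⁻¹ (Ψ f) i x * v i x = Ψ f i (g • x) * triRep G g v i (g • x)
      rw [triRep_apply, triRep_apply, permRep_apply, permRep_apply, inv_inv, inv_smul_smul]⟩
    have huS : ∀ i, ∑ x, u i x = 0 := fun i => by
      have h1 := hker (Pi.single i (fun _ => 1)) (Submodule.mem_sup_right fun j x => by
        by_cases h : j = i <;> simp [h])
      rw [hφu] at h1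
      have h2 : pair (Pi.single i (fun _ => 1)) u = ∑ x, u i x := by
        show ∑ j, ∑ x, (Pi.single i (fun _ => (1 : ZMod p)) : Tri p) j x * u j x = _
        rw [Finset.sum_eq_single i (fun j _ hj => by simp [Pi.single_eq_of_ne hj]) (fun h => absurd (Finset.mem_univ i) h)]
        simp
      rwa [← h2]
    have huW : u ∈ W := ⟨huS, fun f => by
      rw [← hφu]; exact hker _ (Submodule.mem_sup_left ⟨f, rfl⟩)⟩
    have huC : u ∉ C3 := fun hu => hφt (by
      rw [hφu]
      refine Finset.sum_eq_zero fun i _ => ?_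
      rw [Finset.sum_congr rfl fun x _ => by rw [hu i x], ← Finset.sum_mul, ht i, zero_mul])
    -- the last difference outside the constants is affine
    obtain ⟨σ, hσ⟩ := hσ
    let D : Module.End (ZMod p) (Tri p) := triRep G σ⁻¹ - 1
    have hD : D ^ p = 0 := by
      refine sub_one_pow_char (K := ZMod p) _ ?_
      rw [← map_pow]
      have : σ⁻¹ ^ p = 1 := by
        rw [inv_pow, inv_eq_one]
        refine Subtype.ext (Equiv.ext fun x => ?_)
        have : ∀ n : ℕ, (σ.1 ^ n) x = x + n := by
          intro n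
          induction n with
          | zero => simp
          | succ n ih => rw [pow_succ', Equiv.Perm.mul_apply, ih, hσ, Nat.cast_succ, add_assoc]
        rw [SubmonoidClass.coe_pow, this p, hp0, add_zero]
        rfl
      rw [this, map_one]
    have hDW : ∀ v ∈ W, D v ∈ W := fun v hv => W.sub_mem (hWinv _ v hv) hv
    have hex : ∃ n, (D ^ n) u ∈ C3 := ⟨p, by rw [hD]; exact Submodule.zero_mem (C3 (p := p))⟩
    obtain ⟨m, hm⟩ : ∃ m, Nat.find hex = m + 1 := Nat.exists_eq_succ_of_ne_zero fun h => by
      have := Nat.find_spec hex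
      rw [h] at this
      exact huC this
    set v := (D ^ m) u with hvdef
    have hvC : v ∉ C3 := Nat.find_min hex (by omega)
    have hDv : D v ∈ C3 := by
      have h1 := Nat.find_spec hex
      rw [hm, pow_succ', Module.End.mul_apply] at h1
      exact h1
    have hvW : v ∈ W := by
      rw [hvdef]
      clear hm hvdef hvC hDv
      induction m with
      | zero => simpa using huW
      | succ n ih => rw [pow_succ', Module.End.mul_apply]; exact hDW _ ih
    let a : Fin 3 → ZMod p := fun i => D v i 0
    have haff : ∀ i x, v i x = v i 0 + a i * x := by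
      intro i
      have hstep : ∀ x, v i (x + 1) = v i x + a i := fun x => by
        have h1 := hDv i x
        have h2 : D v i x = v i (x + 1) - v i x := by
          show triRep G σ⁻¹ v i x - v i x = _
          rw [triRep_apply, permRep_apply, inv_inv]
          show v i (σ.1 x) - v i x = _
          rw [hσ]
        rw [h2] at h1
        rw [show a i = D v i 0 from rfl, ← h1]
        ring
      have hn : ∀ n : ℕ, v i n = v i 0 + a i * n := by
        intro n
        induction n with
        | zero => simp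
        | succ n ih => rw [Nat.cast_succ, hstep, ih]; ring
      intro x
      have := hn x.val
      rwa [ZMod.natCast_zmod_val] at this
    have ha : a ≠ 0 := fun ha0 => hvC fun i x => by rw [haff i x, ha0]; simp
    have hidS : ∑ x : ZMod p, x = 0 := by
      obtain ⟨i, hi⟩ := Function.ne_iff.1 ha
      have h1 := hvW.1 i
      rw [Finset.sum_congr rfl fun x _ => haff i x, Finset.sum_add_distrib, Finset.sum_const,
        Finset.card_univ, ZMod.card, nsmul_eq_mul, hp0, zero_mul, zero_add, ← Finset.mul_sum] at h1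
      exact (mul_eq_zero.1 h1).resolve_left hi
    let Y : Subrepresentation (permRep (ZMod p) G (ZMod p)) :=
      { toSubmodule :=
          { carrier := {f | ∑ x, f x = 0 ∧ (fun i => a i • f) ∈ W}
            add_mem' := fun {f g} hf hg => ⟨by simp [Finset.sum_add_distrib, hf.1, hg.1], by
              convert W.add_mem hf.2 hg.2 using 1
              funext i; exact smul_add _ _ _⟩
            zero_mem' := ⟨by simp, by
              convert W.zero_mem using 1
              funext i; exact smul_zero _⟩
            smul_mem' := fun k f hf => ⟨by simp [← Finset.mul_sum, hf.1], by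
              convert W.smul_mem k hf.2 using 1
              funext i; exact smul_comm _ _ _⟩ }
        apply_mem_toSubmodule := fun g f hf => ⟨by rw [sum_permRep]; exact hf.1, by
          convert hWinv g _ hf.2 using 1
          funext i; exact (map_smul _ _ _).symm⟩ }
    have hconstY : (permConstants (ZMod p) G (ZMod p)).toSubmodule ≤ Y.toSubmodule := fun f hf => by
      obtain ⟨k, hk⟩ := mem_permConstants.1 hf
      refine ⟨by rw [Finset.sum_congr rfl fun x _ => hk x, Finset.sum_const, Finset.card_univ,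
        ZMod.card, nsmul_eq_mul, hp0, zero_mul], hC3W _ fun i x => ?_⟩
      simp [hk x, hk 0]
    have hidY : (id : ZMod p → ZMod p) ∈ Y.toSubmodule := by
      refine ⟨hidS, ?_⟩
      have : (fun i => a i • (id : ZMod p → ZMod p)) = v - fun i _ => v i 0 := by
        funext i x
        simp [haff i x]
      rw [this]
      exact W.sub_mem hvW (hC3W _ fun i x => rfl)
    rcases Cfsg.Agent.S0674.result (p := p) (ZMod.card p) G hG Y hconstY (fun f hf => hf.1) with hY | hY
    · rw [hY] at hidY
      obtain ⟨k, hk⟩ := mem_permConstants.1 hidY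
      exact one_ne_zero ((hk 1).trans (hk 0).symm : (1 : ZMod p) = 0)
    · refine ha (hind a fun x => ?_)
      have hf : (Pi.single x 1 - Pi.single 0 1 : ZMod p → ZMod p) ∈ Y.toSubmodule := by
        rw [hY, mem_permSumZero]
        simp [Finset.sum_sub_distrib]
      have h1 := hf.2.2 (Pi.single x₀ 1)
      rw [hΨsingle, hw0] at h1
      simp only [pair, Pi.smul_apply, Pi.sub_apply, smul_eq_mul, mul_sub, Finset.sum_sub_distrib,
        Pi.single_apply, mul_ite, mul_one, mul_zero, Finset.sum_ite_eq', Finset.mem_univ, if_true,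
        sub_eq_zero] at h1
      rw [Finset.sum_congr rfl fun i _ => mul_comm (a i) (c i x), h1]
      exact Finset.sum_congr rfl fun i _ => mul_comm _ _
  -- lifting matrices
  set St := MulAction.stabilizer G x₀
  let Rel : Module.End (ZMod p) (Prs p → ZMod p) → Matrix (Fin 3) (Fin 3) (ZMod p) → Prop :=
    fun E A => ∀ f, Ψ (E f) - mA A (Ψ f) ∈ C3
  have hlift : ∀ A : Matrix (Fin 3) (Fin 3) (ZMod p), ∃ E, Good E ∧ Rel E A := by
    intro A
    obtain ⟨f, hf⟩ := hsurj (mA A c) fun i => by
      simp [mA_apply, Finset.sum_comm (γ := ZMod p), ← Finset.mul_sum, hc0]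
    have hinvSt : ((Nat.card St : ℕ) : ZMod p) ≠ 0 := by
      rwa [Ne, ZMod.natCast_eq_zero_iff]
    let fb : Prs p → ZMod p := ((Nat.card St : ZMod p)⁻¹) • ∑ g : St, permRep (ZMod p) G (Prs p) g f
    have hfb : ∀ g : G, g • x₀ = x₀ → permRep (ZMod p) G (Prs p) g fb = fb := by
      intro g hg
      simp only [fb, map_smul, map_sum]
      congr 1
      refine Fintype.sum_equiv (Equiv.mulLeft (⟨g, hg⟩ : St)) _ _ fun h => ?_
      show _ = permRep (ZMod p) G (Prs p) (g * h) f
      rw [map_mul]
      rfl
    have hΨfb : Ψ fb - mA A c ∈ C3 := by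
      have h1 : Ψ fb - mA A c = (Nat.card St : ZMod p)⁻¹ •
          ∑ g : St, triRep G (g : G) (Ψ f - mA A c) := by
        simp only [fb, map_smul, map_sum, hΨeq, map_sub, Finset.sum_sub_distrib, smul_sub]
        congr 1
        rw [Finset.sum_congr rfl fun (g : St) _ => show triRep G (g : G) (mA A c) = mA A c by
          rw [triRep_mA, hfix _ g.2], Finset.sum_const, Finset.card_univ, ← Nat.card_eq_fintype_card,
          ← Nat.cast_smul_eq_nsmul (ZMod p), smul_smul, inv_mul_cancel₀ hinvSt, one_smul]
      rw [h1]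
      exact Submodule.smul_mem (C3 (p := p)) _ (Submodule.sum_mem (C3 (p := p)) fun g _ => triRep_mem_C3 _ hf)
    obtain ⟨e, he0, he⟩ := exists_family (permRep (ZMod p) G (Prs p)) x₀ fb hfb
    let E : Module.End (ZMod p) (Prs p → ZMod p) := Fintype.linearCombination (ZMod p) e
    have hE : ∀ h, E h = ∑ x, h x • e x := fun h => Fintype.linearCombination_apply _ _ _
    have hEeq : ∀ (g : G) h, E (permRep (ZMod p) G (Prs p) g h) = permRep (ZMod p) G (Prs p) g (E h) := by
      intro g h
      rw [hE, hE, map_sum]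
      refine (Fintype.sum_equiv (MulAction.toPerm g) _ _ fun x => ?_).symm
      show permRep (ZMod p) G (Prs p) g (h x • e x) = permRep (ZMod p) G (Prs p) g h (g • x) • e (g • x)
      rw [map_smul, he, permRep_apply g h, inv_smul_smul]
    refine ⟨E, ⟨fun h => ?_, fun k hk h => ?_⟩, fun h => ?_⟩
    · obtain ⟨σ, hσ⟩ := hσ
      have hT : ∀ h, T h = permRep (ZMod p) G (Prs p) σ h := fun h => funext fun x => by
        show h (x.1 - 1, x.2) = h (σ⁻¹ • x)
        have key : ∀ y, (σ⁻¹ : G).1 y = y - 1 := fun y => by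
          show σ.1⁻¹ y = _
          rw [Equiv.Perm.inv_eq_iff_eq, hσ, sub_add_cancel]
        congr 1
        refine Prod.ext (key x.1).symm (Units.ext ?_)
        rw [smul_snd, key, key]
        ring
      rw [hT, hT]
      exact hEeq σ h
    · obtain ⟨g, hg⟩ := hsq k hk
      have hL : ∀ h, L k h = permRep (ZMod p) G (Prs p) g⁻¹ h := fun h => funext fun x => by
        show h ((k : ZMod p) * x.1, k * x.2) = h (g⁻¹⁻¹ • x)
        rw [inv_inv]
        congr 1
        refine Prod.ext (hg x.1).symm (Units.ext ?_)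
        rw [smul_snd, hg, hg, Units.val_mul]
        ring
      rw [hL, hL]
      exact hEeq g⁻¹ h
    · have hx : ∀ x, Ψ (e x) - mA A (w x) ∈ C3 := fun x => by
        obtain ⟨g, rfl⟩ := MulAction.exists_smul_eq G x₀ x
        rw [he, hw, he0, hw0, hΨeq, ← triRep_mA, ← map_sub]
        exact triRep_mem_C3 g hΨfb
      rw [hE, hΨ h, map_sum, map_sum, ← Finset.sum_sub_distrib]
      refine Submodule.sum_mem (C3 (p := p)) fun x _ => ?_
      rw [map_smul, map_smul, ← smul_sub]
      exact Submodule.smul_mem (C3 (p := p)) _ (hx x)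
  have rel_mul : ∀ {E E' A A'}, Rel E A → Rel E' A' → Rel (E * E') (A * A') := by
    intro E E' A A' h h' f
    have h1 := Submodule.add_mem (C3 (p := p)) (h (E' f)) (mA_mem_C3 A (h' f))
    rw [map_sub, sub_add_sub_cancel] at h1
    rw [mA_mul]
    exact h1
  have rel_sub : ∀ {E E' A A'}, Rel E A → Rel E' A' → Rel (E - E') (A - A') := by
    intro E E' A A' h h' f
    have h1 := Submodule.sub_mem (C3 (p := p)) (h f) (h' f)
    rw [mA_sub, LinearMap.sub_apply, LinearMap.sub_apply, map_sub]
    rwa [sub_sub_sub_comm]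
  have rel_hall : ∀ {E E' E'' A A' A''}, Rel E A → Rel E' A' → Rel E'' A'' →
      Rel (hall E E' E'') (hall A A' A'') := by
    intro E E' E'' A A' A'' h h' h''
    have hc := rel_sub (rel_mul h h') (rel_mul h' h)
    exact rel_sub (rel_mul (rel_mul hc hc) h'') (rel_mul h'' (rel_mul hc hc))
  obtain ⟨E₁, g₁, r₁⟩ := hlift (em 0 1)
  obtain ⟨E₂, g₂, r₂⟩ := hlift (em 1 0)
  obtain ⟨E₃, g₃, r₃⟩ := hlift (em 0 2)
  obtain ⟨E₄, g₄, r₄⟩ := hlift (em 2 0)
  have hZ := rel_mul (rel_hall r₁ r₂ r₃) r₄
  rw [hall_three] at hZ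
  have hpow : ∀ n : ℕ, Rel ((hall E₁ E₂ E₃ * E₄) ^ (n + 1)) (em 0 0) := by
    intro n
    induction n with
    | zero => simpa using hZ
    | succ n ih =>
      rw [pow_succ]
      have h1 := rel_mul ih hZ
      rwa [show (em 0 0 : Matrix (Fin 3) (Fin 3) (ZMod p)) * em 0 0 = em 0 0 by simp [em]] at h1
  have h1 := hpow (p - 1) (Pi.single x₀ 1)
  rw [Nat.sub_add_cancel (Fact.out : p.Prime).one_le, hall_mul_pow_eq_zero g₁ g₂ g₃ g₄,
    LinearMap.zero_apply, map_zero, hΨsingle, hw0, zero_sub, Submodule.neg_mem_iff] at h1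
  have h2' := hind (Pi.single 0 1) fun x => by
    have h3 := h1 0 x
    simp [mA_apply, em, Fin.sum_univ_three, Matrix.single] at h3
    simpa [Fin.sum_univ_three] using h3
  simpa using congrFun h2' 0

end Cfsg.Agent.HalfNorm
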